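import Cfsg.Agent.Classical.OrthSylowTwo.Count
import Mathlib

/-! The 2-adic valuations of the orders of `GL_n(q)` and `GU_n(q)` for `n` a power of 2. -/

set_option autoImplicit false

namespace Cfsg.Lib.Pronormal

open Cfsg.Lib.OrthSylowTwo

/-- The factors of the order: `q^(i+1) - 1`, or `q^(i+1) - (-1)^(i+1)` in the twisted case. -/
def tw (q : ℕ) (neg : Bool) (i : ℕ) : ℕ := if neg = true ∧ Even i then q ^ (i + 1) + 1 else q ^ (i + 1) - 1

/-- The valuation of the order. -/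
noncomputable def fv (q : ℕ) (neg : Bool) (n : ℕ) : ℕ := padicValNat 2 (∏ i ∈ Finset.range n, tw q neg i)

variable {q : ℕ} {neg : Bool}

theorem tw_ne (h1 : 1 < q) (i : ℕ) : tw q neg i ≠ 0 := by
  unfold tw
  split
  · omega
  · exact pow_sub_ne h1 (by omega)

theorem prod_tw_ne (h1 : 1 < q) (n : ℕ) : ∏ i ∈ Finset.range n, tw q neg i ≠ 0 :=
  Finset.prod_ne_zero_iff.2 fun i _ => tw_ne h1 i

theorem padic_tw_even (hq : Odd q) (h1 : 1 < q) (i : ℕ) :
    padicValNat 2 (tw q neg (2 * i)) = padicValNat 2 (tw q neg 0) := by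
  have hpow : q ^ (2 * i + 1) % 4 = q % 4 := by
    rw [pow_succ, pow_mul, Nat.mul_mod, Nat.pow_mod]
    have : q ^ 2 % 4 = 1 := by
      rcases Nat.odd_mod_four_iff.1 (Nat.odd_iff.1 hq) with h | h <;> rw [Nat.pow_mod, h]
    rw [this, one_pow]
    simp
  have hm : padicValNat 2 (2 * i + 1) = 0 := padic_two_odd (by omega)
  have ha := padic_plus hq h1 (m := 2 * i + 1) (by omega)
  have hb := padic_plus hq h1 (m := 1) one_ne_zero
  rw [hm] at ha
  rw [pow_one, padicValNat.one] at hb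
  have hodd := Nat.odd_iff.1 hq
  cases neg
  · simp only [tw, if_neg (fun h : false = true ∧ _ => Bool.false_ne_true h.1), zero_add, pow_one]
    by_cases h : q % 4 = 1
    · have h3 := (ha.1 (by omega)).2
      have h4 := (hb.1 h).2
      omega
    · rw [(ha.2 (by omega)).1, (hb.2 h).1]
  · have e : ∀ j, Even j → tw q true j = q ^ (j + 1) + 1 := fun j hj => if_pos ⟨rfl, hj⟩
    rw [e _ (even_two_mul i), e _ Even.zero, zero_add, pow_one]
    by_cases h : q % 4 = 1
    · rw [(ha.1 (by omega)).1, (hb.1 h).1]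
    · have h3 := (ha.2 (by omega)).2
      have h4 := (hb.2 h).2
      omega

theorem fv_succ (h1 : 1 < q) (n : ℕ) : fv q neg (n + 1) = fv q neg n + padicValNat 2 (tw q neg n) := by
  haveI : Fact (Nat.Prime 2) := ⟨Nat.prime_two⟩
  rw [fv, fv, Finset.prod_range_succ, padicValNat.mul (prod_tw_ne h1 n) (tw_ne h1 n)]

theorem fv_one (h1 : 1 < q) : fv q neg 1 = padicValNat 2 (tw q neg 0) := by
  rw [fv_succ h1]; simp [fv]

theorem fv_even (hq : Odd q) (h1 : 1 < q) (m : ℕ) :
    fv q neg (2 * m) = m * (fv q neg 1 + padicValNat 2 (q ^ 2 - 1)) + padicValNat 2 m.factorial := by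
  haveI : Fact (Nat.Prime 2) := ⟨Nat.prime_two⟩
  induction m with
  | zero => simp [fv]
  | succ m ih =>
    have h : tw q neg (2 * m + 1) = q ^ (2 * (m + 1)) - 1 := by
      rw [tw, if_neg (fun h => by simpa [Nat.even_add_one] using h.2)]
      ring_nf
    rw [show 2 * (m + 1) = 2 * m + 1 + 1 by omega, fv_succ h1, fv_succ h1, ih, padic_tw_even hq h1 m, h,
      padic_sq_pow hq h1 (by omega), ← fv_one h1, Nat.factorial_succ,
      padicValNat.mul (by omega) (Nat.factorial_ne_zero m)]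
    ring

theorem padic_factorial_two_pow (k : ℕ) : padicValNat 2 (2 ^ k).factorial + 1 = 2 ^ k := by
  haveI : Fact (Nat.Prime 2) := ⟨Nat.prime_two⟩
  induction k with
  | zero => simp
  | succ k ih =>
    rw [pow_succ', padicValNat_factorial_mul]
    omega

theorem fv_step (hq : Odd q) (h1 : 1 < q) (k : ℕ) :
    fv q neg (2 ^ (k + 1) + 2 ^ (k + 1)) = 2 * fv q neg (2 ^ (k + 1)) + 1 := by
  have ha := padic_factorial_two_pow k
  have hb := padic_factorial_two_pow (k + 1)
  rw [← two_mul, fv_even hq h1, show 2 ^ (k + 1) = 2 * 2 ^ k from pow_succ' 2 k, fv_even hq h1]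
  rw [show (2 : ℕ) ^ (k + 1) = 2 * 2 ^ k from pow_succ' 2 k] at hb
  have := Nat.one_le_two_pow (n := k)
  rw [mul_assoc]
  omega

theorem fv_two (hq : Odd q) (h1 : 1 < q) : fv q neg 2 = fv q neg 1 + padicValNat 2 (q ^ 2 - 1) := by
  have := fv_even (neg := neg) hq h1 1
  simpa using this

theorem fv_mono (hq : Odd q) (h1 : 1 < q) (h : 4 ∣ tw q neg 0) : 2 ≤ fv q neg 1 ∧ fv q neg 2 = 2 * fv q neg 1 + 1 := by
  haveI : Fact (Nat.Prime 2) := ⟨Nat.prime_two⟩
  have h2 : 2 ≤ fv q neg 1 := by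
    rw [fv_one h1]
    exact (padicValNat_dvd_iff_le (tw_ne h1 0)).1 (by simpa using h)
  have hb := padic_plus hq h1 (m := 1) one_ne_zero
  rw [pow_one, padicValNat.one] at hb
  refine ⟨h2, ?_⟩
  rw [fv_two hq h1, fv_one h1] at *
  cases neg
  · simp [tw] at h h2 ⊢
    by_cases h4 : q % 4 = 1
    · have := (hb.1 h4).2; omega
    · have := (hb.2 h4).1; omega
  · simp [tw] at h h2 ⊢
    by_cases h4 : q % 4 = 1
    · have := (hb.1 h4).1; omega
    · have := (hb.2 h4).2; omega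

theorem fv_rot (hq : Odd q) (h1 : 1 < q) (h : ¬ 4 ∣ tw q neg 0) :
    fv q neg 2 = padicValNat 2 (q ^ 2 - 1) + 1 := by
  have hodd := Nat.odd_iff.1 hq
  rw [fv_two hq h1, fv_one h1, padic_two_of_mod_four (n := tw q neg 0), add_comm]
  cases neg <;> simp [tw] at h ⊢ <;> omega

end Cfsg.Lib.Pronormal
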