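import Cfsg.Agent.Known.Pronormal.Wreath
import Cfsg.Agent.Known.Pronormal.Arith
import Cfsg.Agent.Classical.Unitary.Matrix
import Mathlib

/-! The general linear and unitary families. -/

set_option autoImplicit false
set_option linter.unusedSectionVars false
set_option linter.style.haveILetI false

open Matrix

namespace Cfsg.Lib.Pronormal

open Cfsg.Lib.Classical

universe u

variable {F : Type u} [Field F] [Fintype F]

variable (F) in
/-- The general linear family. -/
def lin : Fam F where
  grp _ _ _ := ⊤
  diag _ _ _ _ _ _ _ := by simp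
  anti _ _ _ _ _ := Subgroup.mem_top _

/-- The matrices with `σ(gᵀ) g = 1`. -/
def uniGrp (σ : F →+* F) (n : Type) [Fintype n] [DecidableEq n] : Subgroup (GL n F) where
  carrier := {g | ((g : Matrix n n F)ᵀ).map σ * (g : Matrix n n F) = 1}
  one_mem' := by simp
  mul_mem' := by
    intro a b ha hb
    simp only [Set.mem_setOf_eq] at ha hb ⊢
    rw [Units.val_mul, transpose_mul, Matrix.map_mul, mul_assoc, ← mul_assoc _ (a : Matrix n n F), ha, one_mul, hb]
  inv_mem' := by
    intro a ha
    simp only [Set.mem_setOf_eq] at ha ⊢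
    have h1 : ((a : Matrix n n F)ᵀ).map σ = (↑a⁻¹ : Matrix n n F) :=
      (Units.inv_eq_of_mul_eq_one_left ha).symm
    have h2 : ((a : Matrix n n F)ᵀ).map σ * (((↑a⁻¹ : Matrix n n F))ᵀ).map σ = 1 := by
      rw [← Matrix.map_mul, ← transpose_mul, Units.inv_mul, transpose_one, Matrix.map_one σ (map_zero σ) (map_one σ)]
    calc _ = (a : Matrix n n F) * (((a : Matrix n n F)ᵀ).map σ) * ((↑a⁻¹ : Matrix n n F)ᵀ).map σ *
          (↑a⁻¹ : Matrix n n F) := by rw [h1, Units.mul_inv, one_mul]
      _ = 1 := by rw [mul_assoc (a : Matrix n n F), h2, mul_one, Units.mul_inv]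

theorem mem_uniGrp {σ : F →+* F} {n : Type} [Fintype n] [DecidableEq n] {g : GL n F} :
    g ∈ uniGrp σ n ↔ ((g : Matrix n n F)ᵀ).map σ * (g : Matrix n n F) = 1 := Iff.rfl

/-- The unitary family. -/
def uni (σ : F →+* F) : Fam F where
  grp n _ _ := uniGrp σ n
  diag n _ _ A B g hg := by
    simp only [mem_uniGrp, hg, fromBlocks_transpose, fromBlocks_map, transpose_zero,
      Matrix.map_zero σ (map_zero σ), fromBlocks_multiply, Matrix.mul_zero, Matrix.zero_mul, add_zero, zero_add]
    rw [← fromBlocks_one, fromBlocks_inj]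
    tauto
  anti n _ _ g hg := by
    simp [mem_uniGrp, hg, fromBlocks_transpose, fromBlocks_map, fromBlocks_multiply,
      Matrix.map_zero σ (map_zero σ), Matrix.map_one σ (map_zero σ) (map_one σ)]

variable {n m : Type} [Fintype n] [DecidableEq n] [Fintype m] [DecidableEq m]

/-- Reindexing. -/
noncomputable def reGL (e : n ≃ m) : GL n F ≃* GL m F :=
  Units.mapEquiv (reindexAlgEquiv F F e).toMulEquiv

theorem reGL_val (e : n ≃ m) (g : GL n F) :
    ((reGL e g : GL m F) : Matrix m m F) = (g : Matrix n n F).submatrix e.symm e.symm := rfl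

theorem det_reGL (e : n ≃ m) (g : GL n F) :
    GeneralLinearGroup.det (reGL e g) = GeneralLinearGroup.det g :=
  Units.ext (det_submatrix_equiv_self e.symm (g : Matrix n n F))

theorem reGL_mem_uniGrp {σ : F →+* F} (e : n ≃ m) (g : GL n F) : reGL e g ∈ uniGrp σ m ↔ g ∈ uniGrp σ n := by
  rw [mem_uniGrp, mem_uniGrp, reGL_val, transpose_submatrix, ← submatrix_map, submatrix_mul_equiv]
  constructor
  · intro h
    have := congrArg (fun M : Matrix m m F => M.submatrix e e) h
    simpa using this
  · intro h
    rw [h, submatrix_one_equiv]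

theorem uniGrp_map (σ : F →+* F) (e : n ≃ m) : (uniGrp σ n).map (reGL e).toMonoidHom = uniGrp σ m := by
  ext g
  rw [Subgroup.mem_map_equiv, ← reGL_mem_uniGrp e, MulEquiv.apply_symm_apply]

section Unitary

variable {q : ℕ} (hF : Fintype.card F = q ^ 2)

theorem powConj_invol (x : F) : powConj hF (powConj hF x) = x := (powConj_isConj hF).invol x

theorem uniGrp_fin (d : ℕ) : uniGrp (powConj hF) (Fin d) = Cfsg.GU d F q := by
  ext g
  have key : ∀ u v : Fin d → F, hermForm d F q ((g : Matrix _ _ F) *ᵥ u) ((g : Matrix _ _ F) *ᵥ v) =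
      u ⬝ᵥ (((g : Matrix _ _ F)ᵀ * (g : Matrix _ _ F).map (powConj hF)) *ᵥ fun i => powConj hF (v i)) := by
    intro u v
    rw [← mulVec_mulVec, dotProduct_mulVec, vecMul_transpose, Cfsg.hermForm]
    refine Finset.sum_congr rfl fun i _ => ?_
    rw [← powConj_apply hF]
    congr 1
    simp [mulVec, dotProduct, map_sum]
  have hflip : ((g : Matrix (Fin d) (Fin d) F)ᵀ * (g : Matrix _ _ F).map (powConj hF)).map (powConj hF) =
      ((g : Matrix (Fin d) (Fin d) F)ᵀ).map (powConj hF) * (g : Matrix _ _ F) := by
    rw [Matrix.map_mul]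
    congr 1
    ext i j
    simp [powConj_invol hF]
  constructor
  · intro h u v
    have h2 : (g : Matrix (Fin d) (Fin d) F)ᵀ * (g : Matrix _ _ F).map (powConj hF) = 1 := by
      refine Matrix.map_injective (powConj hF).injective ?_
      beta_reduce
      rw [hflip, h, Matrix.map_one _ (map_zero _) (map_one _)]
    rw [Units.coeHom_apply, key, h2, one_mulVec]
    simp [Cfsg.hermForm, dotProduct, powConj_apply]
  · intro h
    rw [mem_uniGrp, ← hflip]
    have h2 : (g : Matrix (Fin d) (Fin d) F)ᵀ * (g : Matrix _ _ F).map (powConj hF) = 1 := by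
      refine Matrix.ext fun i j => ?_
      have hij := (key (Pi.single i 1) (Pi.single j 1)).symm.trans (h _ _)
      rw [show (fun k => powConj hF ((Pi.single j (1 : F) : Fin d → F) k)) = Pi.single j 1 by
        funext k; by_cases hk : k = j <;> simp [hk]] at hij
      rw [single_dotProduct, mulVec_single_one, one_mul] at hij
      refine hij.trans ?_
      rw [Cfsg.hermForm, Finset.sum_eq_single i (fun k _ hk => by simp [hk]) (by simp), Matrix.one_apply]
      by_cases hij' : i = j
      · subst hij'; simp
      · have hq : q ≠ 0 := by rintro rfl; exact absurd hF (by simp [Fintype.card_ne_zero])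
        simp [hij', hq]
    rw [h2, Matrix.map_one _ (map_zero _) (map_one _)]

theorem card_uniGrp (n : Type) [Fintype n] [DecidableEq n] :
    Nat.card (uniGrp (powConj hF) n) = cardGUFormula q (Fintype.card n) := by
  rw [← card_GU hF, ← uniGrp_fin hF, ← uniGrp_map (powConj hF) (Fintype.equivFin n),
    Subgroup.card_map_of_injective (K := uniGrp (powConj hF) n)
      (show Function.Injective (reGL (F := F) (Fintype.equivFin n)).toMonoidHom from (reGL _).injective)]

theorem padic_uniGrp (hq : Odd q) (h1 : 1 < q) (n : Type) [Fintype n] [DecidableEq n] :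
    padicValNat 2 (Nat.card ((uni (powConj hF)).grp n)) = fv q true (Fintype.card n) := by
  haveI : Fact (Nat.Prime 2) := ⟨Nat.prime_two⟩
  change padicValNat 2 (Nat.card (uniGrp (powConj hF) n)) = _
  have hprod : ∀ d, (∏ i ∈ Finset.range d, (if Even i then q ^ (i + 1) + 1 else q ^ (i + 1) - 1)) =
      ∏ i ∈ Finset.range d, tw q true i := fun d => Finset.prod_congr rfl fun i _ => by simp [tw]
  rw [card_uniGrp hF, cardGUFormula, hprod, padicValNat.mul (pow_ne_zero _ (by omega)) (prod_tw_ne h1 _),
    padicValNat.eq_zero_of_not_dvd (fun h => ?_), zero_add]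
  · rfl
  · have := Nat.Prime.dvd_of_dvd_pow Nat.prime_two h
    rw [Nat.odd_iff] at hq
    omega

end Unitary

theorem padic_lin (hq : Odd (Fintype.card F)) (n : Type) [Fintype n] [DecidableEq n] :
    padicValNat 2 (Nat.card ((lin F).grp n)) = fv (Fintype.card F) false (Fintype.card n) := by
  haveI : Fact (Nat.Prime 2) := ⟨Nat.prime_two⟩
  have h1 : 1 < Fintype.card F := Fintype.one_lt_card
  change padicValNat 2 (Nat.card (⊤ : Subgroup (GL n F))) = _
  rw [Subgroup.card_top, Nat.card_congr (reGL (F := F) (Fintype.equivFin n)).toEquiv, card_GL_field]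
  generalize Fintype.card n = d
  have h2 : ∀ i : Fin d, Fintype.card F ^ d - Fintype.card F ^ (i : ℕ) =
      Fintype.card F ^ (i : ℕ) * tw (Fintype.card F) false (d - 1 - i) := by
    intro i
    rw [tw, if_neg (fun h => by simp at h), Nat.mul_sub, mul_one, ← pow_add]
    congr 2
    omega
  simp only [h2, Finset.prod_mul_distrib]
  rw [Fin.prod_univ_eq_prod_range (fun i => tw (Fintype.card F) false (d - 1 - i)),
    Finset.prod_range_reflect (fun i => tw (Fintype.card F) false i) d, Finset.prod_pow_eq_pow_sum,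
    padicValNat.mul (pow_ne_zero _ (by omega)) (prod_tw_ne h1 _), padicValNat.eq_zero_of_not_dvd (fun h => ?_),
    zero_add]
  · rfl
  · have := Nat.Prime.dvd_of_dvd_pow Nat.prime_two h
    rw [Nat.odd_iff] at hq
    omega

end Cfsg.Lib.Pronormal
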