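import Cfsg.Agent.Known.Pronormal.Wreath
import Cfsg.Agent.Known.Pronormal.Groups
import Cfsg.Agent.Classical.WreathSylowTwo.GLPair
import Mathlib

/-! The blocks from which the induction starts. -/

set_option autoImplicit false
set_option linter.unusedSectionVars false
set_option linter.style.haveILetI false

open Matrix

namespace Cfsg.Lib.Pronormal

open Cfsg.Lib.WreathSylowTwo

universe u

variable {F : Type u} [Field F] [Fintype F] [DecidableEq F] {Γ : Fam F}

/-- The block of size 1. -/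
theorem good_mono (h2 : (2 : F) ≠ 0) (hr : 2 ≤ padicValNat 2 (Nat.card (Γ.grp (Fin 1))))
    (hcard : padicValNat 2 (Nat.card (Γ.grp (Fin 1 ⊕ Fin 1))) = 2 * padicValNat 2 (Nat.card (Γ.grp (Fin 1))) + 1) :
    ∃ W : Subgroup (GL (Fin 1 ⊕ Fin 1) F), Good Γ W := by
  classical
  have hcomm : ∀ a b : GL (Fin 1) F, a * b = b * a := fun a b => Units.ext (by
    ext i j; fin_cases i; fin_cases j; simp [Matrix.mul_apply, mul_comm])
  obtain ⟨W, hWle, hW2, hWc, -⟩ := exists_two_part (Γ.grp (Fin 1)) (fun a _ b _ => hcomm a b)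
  rw [Nat.factorization_def _ Nat.prime_two] at hWc
  set r := padicValNat 2 (Nat.card (Γ.grp (Fin 1))) with hr'
  -- the group is cyclic
  let ev : W →* F :=
    { toFun := fun w => ((w : GL (Fin 1) F) : Matrix (Fin 1) (Fin 1) F) 0 0
      map_one' := by simp
      map_mul' := fun a b => by simp [Matrix.mul_apply] }
  have hev : Function.Injective ev := fun a b h => Subtype.ext (Units.ext (by
    ext i j; fin_cases i; fin_cases j; exact h))
  haveI : IsCyclic W := isCyclic_of_subgroup_isDomain ev hev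
  obtain ⟨z, hz⟩ := IsCyclic.exists_generator (α := W)
  have hzo : orderOf z = 2 ^ r := by rw [orderOf_eq_card_of_forall_mem_zpowers hz, hWc]
  have hio : orderOf (z ^ 2 ^ (r - 2)) = 4 := by
    rw [orderOf_pow' _ (pow_ne_zero _ two_ne_zero), hzo, Nat.gcd_eq_right (pow_dvd_pow 2 (Nat.sub_le r 2)),
      Nat.pow_div (Nat.sub_le r 2) (by norm_num), show r - (r - 2) = 2 by omega]
  set i : W := z ^ 2 ^ (r - 2) with hi
  have hio' : orderOf (ev i) = 4 := (orderOf_injective ev hev i).trans hio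
  have hsq : ev i * ev i = -1 := by
    have h4 : ev i ^ 4 = 1 := by rw [← hio']; exact pow_orderOf_eq_one _
    have hne : ev i ^ 2 ≠ 1 := fun h => by
      have := orderOf_dvd_of_pow_eq_one h
      rw [hio'] at this
      norm_num at this
    have : (ev i ^ 2 - 1) * (ev i ^ 2 + 1) = 0 := by linear_combination h4
    rcases mul_eq_zero.1 this with h | h
    · exact absurd (sub_eq_zero.1 h) hne
    · linear_combination h
  have htr : ∀ w : GL (Fin 1) F, (w : Matrix (Fin 1) (Fin 1) F).trace = (w : Matrix (Fin 1) (Fin 1) F) 0 0 :=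
    fun w => Matrix.trace_fin_one _
  have hii : (i : GL (Fin 1) F) * i = -1 := Units.ext (by
    ext a b; fin_cases a; fin_cases b
    simpa [Matrix.mul_apply, ev] using hsq)
  have hB : Block Γ W := by
    refine ⟨hWle, hW2, hWc, hii ▸ mul_mem i.2 i.2, fun M _ => ⟨M 0 0, ?_⟩, fun g _ _ _ =>
      ⟨(g : Matrix (Fin 1) (Fin 1) F) 0 0, ?_⟩⟩
    all_goals (ext a b; fin_cases a; fin_cases b; simp)
  have hi1 : ev i + 1 ≠ 0 := fun h => by
    rw [show ev i = -1 from by linear_combination h] at hsq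
    exact h2 (by linear_combination hsq)
  refine ⟨wr W, good_wr hB h2 hcard (fun A hA => ?_) fun A hA => ?_⟩
  · by_cases h : (A : Matrix (Fin 1) (Fin 1) F) 0 0 = -1
    · refine ⟨i, i.2, i, i.2, ?_, ?_⟩
      · rw [← map_mul, hii, show A = -1 from Units.ext (by ext a b; fin_cases a; fin_cases b; simpa using h)]
      · rw [htr]
        change ev i + ev i ≠ 0
        intro h0
        have h0' : (2 : F) * ev i = 0 := by linear_combination h0
        rw [(mul_eq_zero.1 h0').resolve_left h2] at hsq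
        simp at hsq
    · refine ⟨1, one_mem W, A, hA, by rw [map_one, one_mul], ?_⟩
      rw [htr, htr]
      intro h0
      exact h (by simp at h0; linear_combination h0)
  · by_cases h : (A : Matrix (Fin 1) (Fin 1) F) 0 0 = -1
    · rw [show A = (i : GL (Fin 1) F) * i from hii.symm ▸ Units.ext (by
        ext a b; fin_cases a; fin_cases b; simpa using h)]
      refine mul_mem (Subgroup.subset_closure ⟨i.2, ?_⟩) (Subgroup.subset_closure ⟨i.2, ?_⟩) <;>
      · rw [htr, Fintype.card_fin, Nat.cast_one]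
        exact hi1
    · refine Subgroup.subset_closure ⟨hA, ?_⟩
      rw [htr, Fintype.card_fin, Nat.cast_one]
      intro h0
      exact h (by linear_combination h0)

theorem trace_rot (x y : F) : (rot x y).trace = 2 * x := by simp [rot, Matrix.trace_fin_two]; ring

theorem sgl_val : ((sgl : GL (Fin 2) F) : Matrix (Fin 2) (Fin 2) F) = !![1, 0; 0, -1] := rfl

theorem rot_mul_sgl (x y : F) : rot x y * !![1, 0; 0, -1] = !![x, -y; -y, -x] := by
  ext i j; fin_cases i <;> fin_cases j <;> simp [rot, Matrix.mul_apply, Fin.sum_univ_two]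

theorem sgl_rot_sgl (x y : F) : !![1, 0; 0, -1] * rot x y * !![1, 0; 0, -1] = rot x (-y) := by
  ext i j; fin_cases i <;> fin_cases j <;> simp [rot, Matrix.mul_apply, Fin.sum_univ_two]

/-- The block of size 2, semidihedral. -/
theorem good_rot (h2 : (2 : F) ≠ 0) {s : ℕ} (hs : padicValNat 2 (Nat.card ↥(rotGL ⊓ Γ.grp (Fin 2))) = s)
    (hv : padicValNat 2 (Nat.card (Γ.grp (Fin 2))) = s + 1)
    {J : GL (Fin 2) F} (hJ : (J : Matrix (Fin 2) (Fin 2) F) = rot 0 1) (hJΓ : J ∈ Γ.grp (Fin 2))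
    (hsglΓ : sgl ∈ Γ.grp (Fin 2)) {g₀ : GL (Fin 2) F} (hg₀ : g₀ ∈ rotGL ⊓ Γ.grp (Fin 2))
    (hdet₀ : GeneralLinearGroup.det g₀ = -1)
    (hdet : ∀ g ∈ Γ.grp (Fin 2), ∃ m, Odd m ∧ GeneralLinearGroup.det g ^ (2 * m) = 1)
    (hno : ∀ g ∈ Γ.grp (Fin 2), ∀ y, (g : Matrix (Fin 2) (Fin 2) F) = rot 0 y → GeneralLinearGroup.det g ≠ -1) :
    ∃ W : Subgroup (GL (Fin 2) F), Good Γ W := by
  classical
  set R := rotGL (F := F) ⊓ Γ.grp (Fin 2) with hR
  obtain ⟨C, hCR, hC2, hCc, hCmax⟩ := exists_two_part R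
    (fun a ha b hb => rotGL_comm a (Subgroup.mem_inf.1 ha).1 b (Subgroup.mem_inf.1 hb).1)
  rw [Nat.factorization_def _ Nat.prime_two, hs] at hCc
  have hrot : ∀ c ∈ C, ∃ x y, ((c : GL (Fin 2) F) : Matrix (Fin 2) (Fin 2) F) = rot x y :=
    fun c hc => (Subgroup.mem_inf.1 (hCR hc)).1
  have hΓ : ∀ c ∈ C, c ∈ Γ.grp (Fin 2) := fun c hc => (Subgroup.mem_inf.1 (hCR hc)).2
  have hconj : ∀ c ∈ C, sgl * c * sgl ∈ C := by
    intro c hc
    obtain ⟨x, y, hxy⟩ := hrot c hc
    obtain ⟨k, hk⟩ := hC2 ⟨c, hc⟩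
    have hk' : c ^ 2 ^ k = 1 := by simpa using congrArg Subtype.val hk
    refine hCmax _ (Subgroup.mem_inf.2 ⟨⟨x, -y, ?_⟩, mul_mem (mul_mem hsglΓ (hΓ c hc)) hsglΓ⟩) k ?_
    · rw [Units.val_mul, Units.val_mul, hxy, sgl_val, sgl_rot_sgl]
    · have h := conj_pow (a := (sgl : GL (Fin 2) F)) (b := c) (i := 2 ^ k)
      rw [sgl_inv] at h
      rw [h, hk', mul_one, sgl_mul_self]
  have hss : ∀ a : GL (Fin 2) F, a * sgl * sgl = a := fun a => by rw [mul_assoc, sgl_mul_self, mul_one]
  let W : Subgroup (GL (Fin 2) F) :=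
    { carrier := {g | g ∈ C ∨ g * sgl ∈ C}
      one_mem' := Or.inl (one_mem _)
      mul_mem' := by
        intro a b ha hb
        rcases ha with ha | ha <;> rcases hb with hb | hb
        · exact Or.inl (mul_mem ha hb)
        · exact Or.inr (by rw [mul_assoc]; exact mul_mem ha hb)
        · refine Or.inr ?_
          have := mul_mem ha (hconj b hb)
          rwa [← mul_assoc, ← mul_assoc, hss] at this
        · refine Or.inl ?_
          have := mul_mem ha (hconj _ hb)
          rwa [← mul_assoc, ← mul_assoc, hss, ← mul_assoc, hss] at this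
      inv_mem' := by
        intro a ha
        rcases ha with ha | ha
        · exact Or.inl (inv_mem ha)
        · refine Or.inr ?_
          have := hconj _ (inv_mem ha)
          rwa [_root_.mul_inv_rev, sgl_inv, ← mul_assoc, sgl_mul_self, one_mul] at this }
  have hWmem : ∀ g, g ∈ W ↔ g ∈ C ∨ g * sgl ∈ C := fun g => Iff.rfl
  have hsglW : sgl ∈ W := Or.inr (by rw [sgl_mul_self]; exact one_mem C)
  have hCW : C ≤ W := fun c hc => Or.inl hc
  have hcs : ∀ c ∈ C, c * sgl ∈ W := fun c hc => Or.inr (by rw [hss]; exact hc)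
  have htr0 : ∀ g : GL (Fin 2) F, g * sgl ∈ C → (g : Matrix (Fin 2) (Fin 2) F).trace = 0 := by
    intro g hg
    obtain ⟨x, y, hxy⟩ := hrot _ hg
    rw [← hss g, Units.val_mul, hxy, sgl_val, rot_mul_sgl, Matrix.trace_fin_two]
    simp
  have htrC : ∀ g ∈ W, (g : Matrix (Fin 2) (Fin 2) F).trace ≠ 0 → g ∈ C := fun g hg h =>
    hg.resolve_right fun h' => h (htr0 g h')
  have hdisj : ∀ g, g ∈ C → ¬ g * sgl ∈ C := by
    intro g hg hg'
    obtain ⟨x, y, hxy⟩ := hrot _ hg
    obtain ⟨x', y', hxy'⟩ := hrot _ hg'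
    rw [Units.val_mul, hxy, sgl_val, rot_mul_sgl] at hxy'
    have e1 : x = x' := congrFun (congrFun hxy' 0) 0
    have e2 : -x = x' := congrFun (congrFun hxy' 1) 1
    have e3 : -y = y' := congrFun (congrFun hxy' 0) 1
    have e4 : -y = -y' := congrFun (congrFun hxy' 1) 0
    have hx : x = 0 := (mul_eq_zero.1 (show (2 : F) * x = 0 by linear_combination e1 - e2)).resolve_left h2
    have hy : y = 0 := (mul_eq_zero.1 (show (2 : F) * y = 0 by linear_combination -e3 - e4)).resolve_left h2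
    have := (Matrix.isUnit_iff_isUnit_det _).1 g.isUnit
    rw [hxy, det_rot, hx, hy] at this
    simp at this
  have hWc : Nat.card W = 2 ^ (s + 1) := by
    let f : Bool × C → W := fun p => match p with
      | (true, c) => ⟨c.1, Or.inl c.2⟩
      | (false, c) => ⟨c.1 * sgl, hcs _ c.2⟩
    have hf : Function.Bijective f := by
      refine ⟨?_, ?_⟩
      · rintro ⟨b, c⟩ ⟨b', c'⟩ h
        have h' := congrArg Subtype.val h
        cases b <;> cases b' <;> simp only [f] at h'
        · rw [Subtype.ext (mul_right_cancel h')]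
        · exact absurd c.2 (fun hc => hdisj _ hc (h' ▸ c'.2))
        · exact absurd c'.2 (fun hc => hdisj _ hc (h' ▸ c.2))
        · rw [Subtype.ext h']
      · rintro ⟨g, hg | hg⟩
        · exact ⟨(true, ⟨g, hg⟩), rfl⟩
        · exact ⟨(false, ⟨g * sgl, hg⟩), Subtype.ext (hss g)⟩
    rw [← Nat.card_congr (Equiv.ofBijective f hf), Nat.card_prod, Nat.card_eq_fintype_card (α := Bool),
      Fintype.card_bool, hCc, pow_succ']
  have hW2 : IsPGroup 2 W := IsPGroup.of_card hWc
  have hWΓ : W ≤ Γ.grp (Fin 2) := fun g hg => by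
    rcases hg with h | h
    · exact hΓ g h
    · rw [← hss g]; exact mul_mem (hΓ _ h) hsglΓ
  -- an element of determinant `-1` in `C`
  obtain ⟨m, hm, hk⟩ : ∃ m, Odd m ∧ (g₀ ^ m) ^ 2 ^ (orderOf g₀).factorization 2 = 1 := by
    refine ⟨orderOf g₀ / 2 ^ (orderOf g₀).factorization 2, ?_, ?_⟩
    · rw [Nat.odd_iff]
      have := Nat.not_dvd_ordCompl Nat.prime_two (orderOf_pos g₀).ne'
      omega
    · rw [← pow_mul, Nat.div_mul_cancel (Nat.ordProj_dvd _ _), pow_orderOf_eq_one]
  set c₀ := g₀ ^ m with hc₀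
  have hc₀C : c₀ ∈ C := hCmax _ (pow_mem hg₀ m) _ hk
  have hdc₀ : GeneralLinearGroup.det c₀ = -1 := by rw [hc₀, map_pow, hdet₀, hm.neg_one_pow]
  have hJC : J ∈ C := by
    refine hCmax J (Subgroup.mem_inf.2 ⟨⟨0, 1, hJ⟩, hJΓ⟩) 2 (Units.ext ?_)
    rw [Units.val_pow_eq_pow_val, hJ, show (2 : ℕ) ^ 2 = 2 + 2 from rfl, pow_add, pow_two, rot_mul, rot_mul,
      Units.val_one, ← rot_one]
    congr 1 <;> ring
  have hJdet : GeneralLinearGroup.det J = 1 := Units.ext (by
    rw [GeneralLinearGroup.val_det_apply, hJ, det_rot]; simp)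
  obtain ⟨x₀, y₀, hxy₀⟩ := hrot c₀ hc₀C
  have hx₀ : x₀ ≠ 0 := fun h => hno c₀ (hΓ _ hc₀C) y₀ (by rw [hxy₀, h]) hdc₀
  have hy₀ : y₀ ≠ 0 := fun h => hno (c₀ * J) (mul_mem (hΓ _ hc₀C) hJΓ) x₀
    (by rw [Units.val_mul, hxy₀, hJ, rot_mul, h]; congr 1 <;> ring) (by rw [map_mul, hdc₀, hJdet, mul_one])
  have hdW : ∀ g ∈ W, GeneralLinearGroup.det g = 1 ∨ GeneralLinearGroup.det g = -1 := by
    intro g hg
    obtain ⟨k, hk⟩ := hW2 ⟨g, hg⟩
    obtain ⟨m, hm, hm2⟩ := hdet g (hWΓ hg)
    have h1 : orderOf (GeneralLinearGroup.det g) ∣ 2 ^ k := orderOf_dvd_of_pow_eq_one (by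
      rw [← map_pow, show g ^ 2 ^ k = 1 by simpa using congrArg Subtype.val hk, map_one])
    have h2' : orderOf (GeneralLinearGroup.det g) ∣ 2 :=
      (Nat.Coprime.dvd_of_dvd_mul_right (Nat.Coprime.coprime_dvd_left h1
        (Nat.Coprime.pow_left k (Nat.coprime_two_left.2 hm))) (orderOf_dvd_of_pow_eq_one hm2))
    have h3 : (GeneralLinearGroup.det g : F) * (GeneralLinearGroup.det g : F) = 1 := by
      rw [← sq, ← Units.val_pow_eq_pow_val, orderOf_dvd_iff_pow_eq_one.1 h2', Units.val_one]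
    rcases mul_self_eq_one_iff.1 h3 with h | h
    · exact Or.inl (Units.ext h)
    · exact Or.inr (Units.ext (by simpa using h))
  refine ⟨W, ⟨⟨hWΓ, hW2, by rw [hWc, hv], ?_, ?_, ?_⟩, ?_, ?_, ?_, ?_⟩⟩
  · refine hCW ?_
    rw [show (-1 : GL (Fin 2) F) = J * J from Units.ext (by
      rw [Units.val_mul, hJ, rot_mul]
      ext i j; fin_cases i <;> fin_cases j <;> simp [rot])]
    exact mul_mem hJC hJC
  · intro M hM
    have e1 := hM _ hsglW
    have e2 := hM _ (hCW hJC)
    rw [sgl_val] at e1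
    rw [hJ] at e2
    have a1 := congrFun (congrFun e1 0) 1
    have a2 := congrFun (congrFun e1 1) 0
    have a3 := congrFun (congrFun e2 0) 1
    simp [Matrix.mul_apply, Fin.sum_univ_two, rot] at a1 a2 a3
    have b1 : M 0 1 = 0 := (mul_eq_zero.1 (show (2 : F) * M 0 1 = 0 by linear_combination -a1)).resolve_left h2
    have b2 : M 1 0 = 0 := (mul_eq_zero.1 (show (2 : F) * M 1 0 = 0 by linear_combination a2)).resolve_left h2
    refine ⟨M 0 0, ?_⟩
    ext i j; fin_cases i <;> fin_cases j <;> simp [b1, b2, a3]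
  · intro g hg hodd hn
    have hCcl : ∀ c ∈ C, c ∈ Subgroup.closure {w | w ∈ W ∧ (w : Matrix (Fin 2) (Fin 2) F).trace ≠ 0} := by
      intro c hc
      obtain ⟨x, y, hxy⟩ := hrot c hc
      by_cases hx : x = 0
      · have hy : y ≠ 0 := fun hy => by
          have := (Matrix.isUnit_iff_isUnit_det _).1 c.isUnit
          rw [hxy, det_rot, hx, hy] at this
          simp at this
        have h1 : c * c₀ ∈ Subgroup.closure {w | w ∈ W ∧ (w : Matrix (Fin 2) (Fin 2) F).trace ≠ 0} := by
          refine Subgroup.subset_closure ⟨hCW (mul_mem hc hc₀C), ?_⟩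
          rw [Units.val_mul, hxy, hxy₀, rot_mul, trace_rot, hx]
          simp [h2, hy, hy₀]
        have h3 : c₀ ∈ Subgroup.closure {w | w ∈ W ∧ (w : Matrix (Fin 2) (Fin 2) F).trace ≠ 0} :=
          Subgroup.subset_closure ⟨hCW hc₀C, by rw [hxy₀, trace_rot]; exact mul_ne_zero h2 hx₀⟩
        have := mul_mem h1 (inv_mem h3)
        rwa [mul_inv_cancel_right] at this
      · exact Subgroup.subset_closure ⟨hCW hc, by rw [hxy, trace_rot]; exact mul_ne_zero h2 hx⟩
    have hgC : ∀ c ∈ C, g * c * g⁻¹ ∈ C := by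
      intro c hc
      have hle : Subgroup.closure {w | w ∈ W ∧ (w : Matrix (Fin 2) (Fin 2) F).trace ≠ 0} ≤
          C.comap (MulAut.conj g).toMonoidHom := (Subgroup.closure_le _).2 fun w hw => by
        show g * w * g⁻¹ ∈ C
        refine htrC _ (hn w hw.1) ?_
        rw [Units.val_mul, Units.val_mul, Matrix.trace_units_conj]
        exact hw.2
      exact hle (hCcl c hc)
    obtain ⟨x, y, hxy⟩ := hrot _ (hgC J hJC)
    have hsq : rot x y * rot x y = rot (-1) 0 := by
      rw [← hxy, ← Units.val_mul, show g * J * g⁻¹ * (g * J * g⁻¹) = g * (J * J) * g⁻¹ by group,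
        show J * J = -1 from Units.ext (by
          rw [Units.val_mul, hJ, rot_mul]; ext i j; fin_cases i <;> fin_cases j <;> simp [rot])]
      simp
      ext i j; fin_cases i <;> fin_cases j <;> simp [rot]
    rw [rot_mul] at hsq
    obtain ⟨q1, q2⟩ := rot_inj hsq
    have hx : x = 0 := by
      rcases mul_eq_zero.1 (show (2 : F) * (x * y) = 0 by linear_combination q2) with h | h
      · exact absurd h h2
      rcases mul_eq_zero.1 h with h | h
      · exact h
      exfalso
      refine hno (g * J * g⁻¹ * J) (mul_mem (hΓ _ (hgC J hJC)) hJΓ) x ?_ ?_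
      · rw [Units.val_mul, hxy, hJ, rot_mul, h]; congr 1 <;> ring
      · refine Units.ext ?_
        rw [map_mul, hJdet, mul_one, GeneralLinearGroup.val_det_apply, hxy, det_rot, Units.val_neg, Units.val_one]
        subst h
        linear_combination q1
    have hy : y * y = 1 := by subst hx; linear_combination -q1
    have hcomm : Commute g J := by
      refine commute_of_sq hodd ?_
      rcases mul_self_eq_one_iff.1 hy with h | h
      · have hc : Commute g J := by
          have : g * J * g⁻¹ = J := Units.ext (by rw [hxy, hJ, hx, h])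
          exact mul_inv_eq_iff_eq_mul.1 this
        exact hc.mul_left hc
      · have h1 : g * J * g⁻¹ = -J := Units.ext (by
          rw [hxy, Units.val_neg, hJ, hx, h]; ext i j; fin_cases i <;> fin_cases j <;> simp [rot])
        have h3 : g * J = -(J * g) := by
          calc g * J = g * J * g⁻¹ * g := (inv_mul_cancel_right _ _).symm
            _ = -(J * g) := by rw [h1, neg_mul]
        show g * g * J = J * (g * g)
        rw [mul_assoc, h3, mul_neg, ← mul_assoc, h3, neg_mul, neg_neg, mul_assoc]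
    set a := (g : Matrix (Fin 2) (Fin 2) F) 0 0 with ha
    set b := (g : Matrix (Fin 2) (Fin 2) F) 0 1 with hb
    have hgr : (g : Matrix (Fin 2) (Fin 2) F) = rot a b := by
      have e := congrArg Units.val hcomm.eq
      rw [Units.val_mul, Units.val_mul, hJ] at e
      have a1 := congrFun (congrFun e 0) 0
      have a2 := congrFun (congrFun e 0) 1
      simp [Matrix.mul_apply, Fin.sum_univ_two, rot] at a1 a2
      ext i j; fin_cases i <;> fin_cases j <;> simp [rot, ha, hb, ← a2, ← a1]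
    have hgR : g ∈ rotGL (F := F) := ⟨a, b, hgr⟩
    set g' := sgl * g * sgl with hg'
    have hg'R : g' ∈ rotGL (F := F) := ⟨a, -b, by rw [hg', Units.val_mul, Units.val_mul, hgr, sgl_val, sgl_rot_sgl]⟩
    have hg'o : orderOf g' = orderOf g := by
      have h : g' = MulAut.conj (sgl : GL (Fin 2) F) g := by rw [hg', MulAut.conj_apply, sgl_inv]
      rw [h]; exact (MulAut.conj _).orderOf_eq g
    have hmem : g * g'⁻¹ ∈ W := by
      have := mul_mem (hn _ hsglW) hsglW
      rwa [show g * sgl * g⁻¹ * sgl = g * g'⁻¹ by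
        rw [hg', _root_.mul_inv_rev, _root_.mul_inv_rev, sgl_inv]; simp [mul_assoc]] at this
    have hone : g * g'⁻¹ = 1 := by
      refine eq_one_of_odd hW2 hmem (Odd.of_dvd_nat (hodd.mul hodd) ?_)
      have hc : Commute g g'⁻¹ := (show Commute g g' from rotGL_comm _ hgR _ hg'R).inv_right
      refine hc.orderOf_mul_dvd_lcm.trans ?_
      rw [orderOf_inv, hg'o, Nat.lcm_self]
      exact Dvd.intro _ rfl
    have hgg : rot a b = rot a (-b) := by
      rw [← hgr, mul_inv_eq_one.1 hone, hg', Units.val_mul, Units.val_mul, hgr, sgl_val, sgl_rot_sgl]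
    have hb0 : b = 0 := by
      have := (rot_inj hgg).2
      exact (mul_eq_zero.1 (show (2 : F) * b = 0 by linear_combination this)).resolve_left h2
    refine ⟨a, ?_⟩
    rw [hgr, hb0]
    ext i j; fin_cases i <;> fin_cases j <;> simp [rot]
  · intro w hw
    rcases hw with h | h
    · rw [show w = (w * sgl) * sgl from (hss w).symm]
      refine mul_mem (Subgroup.subset_closure ⟨hcs w h, htr0 _ ?_⟩) (Subgroup.subset_closure ⟨hsglW, htr0 _ ?_⟩)
      · rw [hss]; exact h
      · rw [sgl_mul_self]; exact one_mem C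
    · exact Subgroup.subset_closure ⟨Or.inr h, htr0 w h⟩
  · intro w hw hd
    by_cases ht : (w : Matrix (Fin 2) (Fin 2) F).trace = 0
    · exact Subgroup.subset_closure ⟨hw, hd, ht⟩
    have hwC := htrC w hw ht
    set v := c₀ * sgl with hvdef
    have hvdet : GeneralLinearGroup.det v = 1 := by rw [hvdef, map_mul, hdc₀, det_sgl]; simp
    rw [show w = v⁻¹ * (v * w) by group]
    refine mul_mem (inv_mem (Subgroup.subset_closure ⟨hcs _ hc₀C, hvdet, htr0 v ?_⟩))
      (Subgroup.subset_closure ⟨mul_mem (hcs _ hc₀C) (hCW hwC), by rw [map_mul, hvdet, one_mul, hd],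
        htr0 (v * w) ?_⟩)
    · rw [hvdef, hss]; exact hc₀C
    · rw [hvdef, mul_assoc, mul_assoc, ← mul_assoc sgl w sgl]
      exact mul_mem hc₀C (hconj w hwC)
  · intro w hw
    rcases hdW w hw with h | h
    · refine ⟨c₀ * sgl, hcs _ hc₀C, ?_, htr0 _ (by rw [hss]; exact hc₀C)⟩
      rw [map_mul, hdc₀, det_sgl, h]; simp
    · refine ⟨sgl, hsglW, ?_, htr0 _ (by rw [sgl_mul_self]; exact one_mem C)⟩
      rw [det_sgl, h]
  · intro w hw
    rcases hdW w hw with h | h
    · refine ⟨1, one_mem W, by rw [h, map_one], ?_⟩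
      rw [Units.val_one, Matrix.trace_one, Fintype.card_fin]
      exact_mod_cast h2
    · refine ⟨c₀, hCW hc₀C, by rw [hdc₀, h], ?_⟩
      rw [hxy₀, trace_rot]
      exact mul_ne_zero h2 hx₀

end Cfsg.Lib.Pronormal
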