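import Cfsg.Prelude.Def_HallClasses
import Cfsg.Agent.SolvStruct.PronormalExtension
import Cfsg.Agent.Known.SylowTwoSelfNorm
import Cfsg.Agent.Known.AltPronormal
import Cfsg.Agent.Steinberg.Unip
import Cfsg.Agent.Known.PolarBN.StData
import Mathlib

/-! Criteria for the pronormality of the subgroups of index prime to `p`. -/

set_option autoImplicit false

namespace Cfsg.Lib.Pronormal

open Subgroup Cfsg.Lib.SolvStruct.PronormalExt Cfsg.Lib.Steinberg Cfsg.Lib.BN

variable {G : Type*} [Group G] [Finite G] {p : ℕ} [Fact p.Prime]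

/-- A subgroup containing a Sylow subgroup whose normaliser normalises it is pronormal. -/
theorem of_normalizer_normalizes (R : Sylow p G) {H : Subgroup G} (hR : (R : Subgroup G) ≤ H)
    (h : Subgroup.normalizer ((R : Subgroup G) : Set G) ≤ Subgroup.normalizer (H : Set G)) :
    Cfsg.IsPronormal H := by
  intro g
  set J := H ⊔ H.map (MulAut.conj g).toMonoidHom
  have h1 : (R : Subgroup G) ≤ J := hR.trans le_sup_left
  have h2 : ((g • R : Sylow p G) : Subgroup G) ≤ J := by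
    intro x hx
    rw [Sylow.coe_subgroup_smul] at hx
    obtain ⟨y, hy, rfl⟩ := hx
    exact Subgroup.mem_sup_right ⟨y, hR hy, rfl⟩
  obtain ⟨j, hj⟩ := MulAction.exists_smul_eq ↥J (R.subtype h1) ((g • R).subtype h2)
  rw [Sylow.smul_subtype] at hj
  have hj' : (j : G) • R = g • R := Sylow.subtype_injective hj
  have hk := h (Sylow.smul_eq_iff_mem_normalizer.1
    (by rw [mul_smul, ← hj', inv_smul_smul] : ((j : G)⁻¹ * g) • R = R))
  refine ⟨j, j.2, ?_⟩
  have hg : g = (j : G) * ((j : G)⁻¹ * g) := by group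
  conv_lhs => rw [hg, map_mul]
  show H.map (((MulAut.conj (j : G)).toMonoidHom).comp (MulAut.conj ((j : G)⁻¹ * g)).toMonoidHom) = _
  rw [← Subgroup.map_map, map_conj_mem hk]

/-- A subgroup of index prime to `p` is pronormal as soon as those containing a fixed Sylow subgroup are. -/
theorem of_fixed_sylow (R : Sylow p G) (h : ∀ H : Subgroup G, (R : Subgroup G) ≤ H → Cfsg.IsPronormal H)
    {H : Subgroup G} (hH : ¬ p ∣ H.index) : Cfsg.IsPronormal H := by
  obtain ⟨Q⟩ := (inferInstance : Nonempty (Sylow p ↥H))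
  have hidx : ¬ p ∣ ((Q : Subgroup ↥H).map H.subtype).index := by
    rw [Subgroup.index_map_subtype]
    exact (Fact.out : p.Prime).not_dvd_mul Q.not_dvd_index hH
  set S : Sylow p G := (Q.isPGroup'.map H.subtype).toSylow hidx with hS
  have hSH : (S : Subgroup G) ≤ H := by
    intro x hx
    rw [hS, IsPGroup.toSylow_coe] at hx
    obtain ⟨y, -, rfl⟩ := hx
    exact y.2
  obtain ⟨g, hg⟩ := MulAction.exists_smul_eq G S R
  have h1 : Cfsg.IsPronormal (H.map (MulAut.conj g).toMonoidHom) := h _ fun x hx => by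
    rw [← hg, Sylow.coe_subgroup_smul] at hx
    obtain ⟨y, hy, rfl⟩ := hx
    exact ⟨y, hSH hy, rfl⟩
  have h2 := isPronormal_conj g⁻¹ h1
  rwa [Subgroup.map_map, show ((MulAut.conj g⁻¹).toMonoidHom).comp (MulAut.conj g).toMonoidHom = MonoidHom.id G by
    ext x; simp [mul_assoc], Subgroup.map_id] at h2

/-- Pronormality passes to a quotient. -/
theorem of_quotient {G' : Type*} [Group G'] (f : G →* G') (hf : Function.Surjective f)
    (h : ∀ H : Subgroup G, ¬ p ∣ H.index → Cfsg.IsPronormal H) {H : Subgroup G'} (hH : ¬ p ∣ H.index) :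
    Cfsg.IsPronormal H := by
  have h1 := isPronormal_map f hf (h (H.comap f) (by rwa [Subgroup.index_comap_of_surjective H hf]))
  rwa [Subgroup.map_comap_eq_self_of_surjective hf] at h1

/-- A self-normalising Sylow subgroup makes all subgroups of index prime to `p` pronormal. -/
theorem of_self_normalizing (R : Sylow p G)
    (hR : Subgroup.normalizer ((R : Subgroup G) : Set G) ≤ (R : Subgroup G)) {H : Subgroup G} (hH : ¬ p ∣ H.index) :
    Cfsg.IsPronormal H :=
  of_fixed_sylow R (fun _ hK => of_normalizer_normalizes R hK (hR.trans (hK.trans Subgroup.le_normalizer))) hH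

section Split

variable {P : Cfsg.BNPair G} {U : Subgroup G}

theorem normalizer_U_le (S : Split P U p) : Subgroup.normalizer (U : Set G) ≤ P.B := by
  intro y hy
  have h1 := eq_one_of_fixed_by_U S (y := y) fun v hv => S.le (by
    have := (Subgroup.mem_normalizer_iff.1 (inv_mem hy) v).1 hv
    simpa using this)
  simpa using inv_mem (mk_eq_mk.1 h1)

/-- The unipotent group as a Sylow subgroup. -/
theorem exists_sylow (S : Split P U p) : ∃ R : Sylow p G, (R : Subgroup G) = U := by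
  obtain ⟨R, hR⟩ := S.isPGroup.exists_le_sylow
  refine ⟨R, le_antisymm ?_ hR⟩
  by_contra hne
  haveI := R.isPGroup'.isNilpotent
  have hlt : U.subgroupOf (R : Subgroup G) < ⊤ := lt_top_iff_ne_top.2 fun h => hne (Subgroup.subgroupOf_eq_top.1 h)
  obtain ⟨x, hx, hxU⟩ := SetLike.exists_of_lt (normalizerCondition_of_isNilpotent _ hlt)
  apply hxU
  have hn : (x : G) ∈ Subgroup.normalizer (U : Set G) := by
    rw [Subgroup.mem_normalizer_iff]
    intro y
    constructor
    · intro hy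
      have := (Subgroup.mem_normalizer_iff.1 hx ⟨y, hR hy⟩).1 (Subgroup.mem_subgroupOf.2 hy)
      simpa [Subgroup.mem_subgroupOf] using this
    · intro hy
      have := (Subgroup.mem_normalizer_iff.1 (inv_mem hx) ⟨_, hR hy⟩).1 (Subgroup.mem_subgroupOf.2 hy)
      simpa [Subgroup.mem_subgroupOf, mul_assoc] using this
  obtain ⟨u, hu, h, hh, e⟩ := S.decomp _ (normalizer_U_le S hn)
  have hhR : h ∈ (R : Subgroup G) := by
    rw [show h = u⁻¹ * x by rw [e]; group]
    exact mul_mem (inv_mem (hR hu)) x.2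
  have h1 : h = 1 := by
    obtain ⟨k, hk⟩ := R.isPGroup' ⟨h, hhR⟩
    have hk' : h ^ p ^ k = 1 := by simpa using congrArg Subtype.val hk
    obtain ⟨j, -, hj⟩ := (Nat.dvd_prime_pow S.prime).1 (orderOf_dvd_of_pow_eq_one hk')
    rcases j.eq_zero_or_pos with rfl | hj0
    · simpa using hj
    · exfalso
      refine S.coprime ((dvd_pow_self p hj0.ne').trans ?_)
      have := orderOf_dvd_natCard (⟨h, hh⟩ : ↥(P.B ⊓ P.N))
      rwa [← Subgroup.orderOf_coe, hj] at this
  rw [h1, mul_one] at e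
  rw [Subgroup.mem_subgroupOf, e]
  exact hu

/-- The subgroups of index prime to `p` of a group with a split Tits system and abelian torus are pronormal. -/
theorem of_split (S : Split P U p)
    (hcomm : ∀ h ∈ P.B ⊓ P.N, ∀ h' ∈ P.B ⊓ P.N, h * h' = h' * h) {H : Subgroup G} (hH : ¬ p ∣ H.index) :
    Cfsg.IsPronormal H := by
  obtain ⟨R, hRU⟩ := exists_sylow S
  refine of_fixed_sylow R (fun K hK => of_normalizer_normalizes R hK ?_) hH
  rw [hRU] at hK ⊢
  refine (normalizer_U_le S).trans fun b hb => ?_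
  -- the conjugates of `U` inside `K`
  let A : Set G := {y | ∀ v ∈ U, y * v * y⁻¹ ∈ K}
  have htor : ∀ n ∈ P.N, ∀ h ∈ P.B ⊓ P.N, n⁻¹ * h * n ∈ P.B := fun n hn h hh => by
    simpa using P.conj_mem n⁻¹ (inv_mem hn) h hh
  have hA : ∀ b ∈ P.B, ∀ y ∈ A, b * y ∈ A := by
    intro b hb y hy v hv
    obtain ⟨n, hn, hyn⟩ := bruhat P y
    obtain ⟨b1, hb1, b2, hb2, e⟩ := mem_dc.1 hyn
    obtain ⟨u1, hu1, h1, hh1, e1⟩ := S.decomp b1 hb1
    obtain ⟨u3, hu3, h3, hh3, e3⟩ := S.decomp (b * u1) (mul_mem hb (S.le hu1))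
    have hb4 : n⁻¹ * (h3 * h1) * n * b2 ∈ P.B :=
      mul_mem (htor n hn _ (mul_mem hh3 hh1)) hb2
    have hb5 : n⁻¹ * h1 * n * b2 ∈ P.B := mul_mem (htor n hn _ hh1) hb2
    have hv' := S.normal _ hb4 v hv
    have hback : (n⁻¹ * h1 * n * b2)⁻¹ * ((n⁻¹ * (h3 * h1) * n * b2) * v * (n⁻¹ * (h3 * h1) * n * b2)⁻¹) *
        (n⁻¹ * h1 * n * b2) ∈ U := by
      simpa using S.normal _ (inv_mem hb5) _ hv'
    have hw := hy _ hback
    have key : u1⁻¹ * (y * ((n⁻¹ * h1 * n * b2)⁻¹ * ((n⁻¹ * (h3 * h1) * n * b2) * v *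
        (n⁻¹ * (h3 * h1) * n * b2)⁻¹) * (n⁻¹ * h1 * n * b2)) * y⁻¹) * u1 =
        h3 * h1 * n * b2 * v * (h3 * h1 * n * b2)⁻¹ := by
      rw [e, e1]; group
    have hin : h3 * h1 * n * b2 * v * (h3 * h1 * n * b2)⁻¹ ∈ K := by
      rw [← key]
      exact mul_mem (mul_mem (inv_mem (hK hu1)) hw) (hK hu1)
    rw [show b * y * v * (b * y)⁻¹ = u3 * (h3 * h1 * n * b2 * v * (h3 * h1 * n * b2)⁻¹) * u3⁻¹ by
      rw [e, e1, show b * (u1 * h1 * n * b2) = b * u1 * (h1 * n * b2) by group, e3]; group]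
    exact mul_mem (mul_mem (hK hu3) hin) (inv_mem (hK hu3))
  let L : Subgroup G := Subgroup.closure {x | ∃ y ∈ A, ∃ v ∈ U, x = y * v * y⁻¹}
  have hLK : L ≤ K := (Subgroup.closure_le _).2 (by rintro x ⟨y, hy, v, hv, rfl⟩; exact hy v hv)
  have hL : ∀ b ∈ P.B, ∀ x ∈ L, b * x * b⁻¹ ∈ L := fun b hb x hx => by
    induction hx using Subgroup.closure_induction with
    | mem x hx =>
      obtain ⟨y, hy, v, hv, rfl⟩ := hx
      exact Subgroup.subset_closure ⟨b * y, hA b hb y hy, v, hv, by group⟩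
    | one => simp
    | mul x y _ _ hx hy => simpa [mul_assoc] using mul_mem hx hy
    | inv x _ hx => simpa [mul_assoc] using inv_mem hx
  have hdec : ∀ k ∈ K, ∃ l ∈ L, ∃ c ∈ P.B ⊓ K, k = l * c := by
    intro k hk
    have hUL : (R : Subgroup G) ≤ L := by
      rw [hRU]
      exact fun v hv => Subgroup.subset_closure ⟨1, fun w hw => by simpa using hK hw, v, hv, by simp⟩
    have hkL : ((k • R : Sylow p G) : Subgroup G) ≤ L := by
      intro x hx
      rw [Sylow.coe_subgroup_smul] at hx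
      obtain ⟨v, hv, rfl⟩ := hx
      have hv' : v ∈ U := hRU ▸ hv
      exact Subgroup.subset_closure ⟨k, fun w hw => mul_mem (mul_mem hk (hK hw)) (inv_mem hk), v, hv', rfl⟩
    obtain ⟨j, hj⟩ := MulAction.exists_smul_eq ↥L (R.subtype hUL) ((k • R).subtype hkL)
    rw [Sylow.smul_subtype] at hj
    have hj' : (j : G) • R = k • R := Sylow.subtype_injective hj
    have hn : (j : G)⁻¹ * k ∈ Subgroup.normalizer (U : Set G) := by
      rw [← hRU]
      exact Sylow.smul_eq_iff_mem_normalizer.1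
        (by rw [mul_smul, ← hj', inv_smul_smul] : ((j : G)⁻¹ * k) • R = R)
    exact ⟨j, j.2, (j : G)⁻¹ * k, Subgroup.mem_inf.2 ⟨normalizer_U_le S hn, mul_mem (inv_mem (hLK j.2)) hk⟩, by group⟩
  have hBK : ∀ b ∈ P.B, ∀ c ∈ P.B ⊓ K, b * c * b⁻¹ ∈ K := by
    intro b hb c hc
    obtain ⟨u, hu, h, hh, rfl⟩ := S.decomp b hb
    obtain ⟨w, hw, t, ht, rfl⟩ := S.decomp c hc.1
    have htK : t ∈ K := by simpa [← mul_assoc] using mul_mem (inv_mem (hK hw)) hc.2
    rw [show u * h * (w * t) * (u * h)⁻¹ = u * (h * w * h⁻¹) * (h * t * h⁻¹) * u⁻¹ by group,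
      hcomm h hh t ht, mul_inv_cancel_right]
    exact mul_mem (mul_mem (mul_mem (hK hu) (hK (S.normal h hh.1 w hw))) htK) (inv_mem (hK hu))
  have hnorm : ∀ b ∈ P.B, ∀ k ∈ K, b * k * b⁻¹ ∈ K := fun b hb k hk => by
    obtain ⟨l, hl, c, hc, rfl⟩ := hdec k hk
    rw [show b * (l * c) * b⁻¹ = (b * l * b⁻¹) * (b * c * b⁻¹) by group]
    exact mul_mem (hLK (hL b hb l hl)) (hBK b hb c hc)
  rw [Subgroup.mem_normalizer_iff]
  intro k
  refine ⟨hnorm b hb k, fun h => ?_⟩
  have := hnorm b⁻¹ (inv_mem hb) _ h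
  simpa [mul_assoc] using this

end Split

end Cfsg.Lib.Pronormal
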