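import Cfsg.Agent.Known.Pronormal.Criterion
import Cfsg.Agent.Known.SLBorelPair
import Cfsg.Agent.Known.PolarBN.Unitary
import Cfsg.Agent.Known.PolarBN.SplitOpp
import Mathlib

/-! Pronormality of subgroups of index prime to the characteristic in `PSL_n` and `PSU_n`, `n` even. -/

set_option autoImplicit false
set_option linter.unusedSectionVars false
set_option linter.style.haveILetI false

namespace Cfsg.Lib.Pronormal

open Cfsg.Lib.PolarBN Cfsg.Lib.Classical Cfsg.Lib.Steinberg

universe u v w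

variable {F : Type u} [Field F] [Fintype F] (p : ℕ) [Fact p.Prime] [CharP F p]

theorem pronormal_psl_char (n : ℕ) {H : Subgroup (Matrix.ProjectiveSpecialLinearGroup (Fin n) F)}
    (hH : ¬ p ∣ H.index) : Cfsg.IsPronormal H := by
  haveI : Finite (Matrix.SpecialLinearGroup (Fin n) F) := by classical infer_instance
  refine of_quotient (QuotientGroup.mk' (Subgroup.center (Matrix.SpecialLinearGroup (Fin n) F)))
    (QuotientGroup.mk'_surjective _) (fun K hK => of_split (Cfsg.Lib.SLBN.split p) (fun h hh h' hh' => ?_) hK) hH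
  have e := Cfsg.Lib.SLBN.diag_of_inf hh
  have e' := Cfsg.Lib.SLBN.diag_of_inf hh'
  apply Subtype.ext
  refine Matrix.ext fun i j => ?_
  rw [Matrix.SpecialLinearGroup.coe_mul, Matrix.SpecialLinearGroup.coe_mul, Cfsg.Lib.SLBN.mul_apply_of_perm e',
    Cfsg.Lib.SLBN.mul_apply_of_perm e]
  simp only [Equiv.Perm.one_apply]
  by_cases hij : i = j
  · subst hij; ring
  · rw [e i j (by simpa using hij), e' i j (by simpa using hij)]; simp

section Polar

variable {G : Type w} [Group G] [Finite G] {V : Type v} [AddCommGroup V] [Module F V] {m : ℕ}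

/-- Elements fixing a frame spanning up to the radical are trivial. -/
theorem eq_one_of_fix (P : Polar G F V m)
    (hfull : ∀ x, (∀ i, P.β x (P.e i) = 0 ∧ P.β x (P.f i) = 0) → x = 0) {g : G}
    (hg : ∀ a, P.ρ g (P.vec a) = P.vec a) : g = 1 := by
  refine P.inj (LinearMap.ext fun x => ?_)
  have key : ∀ a, P.β (P.ρ g x - x) (P.vec a) = 0 := fun a => by
    have h1 : P.β (P.ρ g x) (P.vec a) = P.β x (P.vec a) := by
      conv_lhs => rw [← hg a]
      exact P.map g x (P.vec a)
    have h2 := P.add_left (P.ρ g x - x) x (P.vec a)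
    rw [sub_add_cancel, h1] at h2
    exact (add_eq_right.1 h2.symm)
  have h := hfull (P.ρ g x - x) fun i => ⟨key (i, true), key (i, false)⟩
  rw [map_one]
  exact sub_eq_zero.1 h

theorem tor_comm (P : Polar G F V m)
    (hfull : ∀ x, (∀ i, P.β x (P.e i) = 0 ∧ P.β x (P.f i) = 0) → x = 0) :
    ∀ g ∈ P.pair.B ⊓ P.pair.N, ∀ h ∈ P.pair.B ⊓ P.pair.N, g * h = h * g := by
  intro g hg h hh
  have hg' : g ∈ P.tor := P.bor_inf_nN.le hg
  have hh' : h ∈ P.tor := P.bor_inf_nN.le hh
  have e : (h * g)⁻¹ * (g * h) = 1 := by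
    refine eq_one_of_fix P hfull fun a => ?_
    obtain ⟨c, -, hc⟩ := P.exists_scalar (hg' a)
    obtain ⟨d, -, hd⟩ := P.exists_scalar (hh' a)
    have h1 : P.ρ (g * h) (P.vec a) = P.ρ (h * g) (P.vec a) := by
      rw [P.ρ_mul, P.ρ_mul, hc, hd, map_smul, map_smul, hc, hd, smul_smul, smul_smul, mul_comm c d]
    rw [P.ρ_mul, h1, ← P.ρ_mul, inv_mul_cancel, P.ρ_one]
  exact (inv_mul_eq_one.1 e).symm

end Polar

theorem pronormal_psu_char {n q : ℕ} (hn : 2 ≤ n) (heven : Even n) (hF : Fintype.card F = q ^ 2)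
    {H : Subgroup (Cfsg.PSU n F q)} (hH : ¬ p ∣ H.index) : Cfsg.IsPronormal H := by
  haveI : Finite ((Fin n → F) ≃ₗ[F] (Fin n → F)) :=
    Finite.of_injective (fun e => (e : (Fin n → F) → (Fin n → F))) DFunLike.coe_injective
  obtain ⟨θ, z, hθ, hz, hz1⟩ := exists_frame_data hF n
  set P := suPolar hF hn θ z hθ hz hz1 with hP
  have hfull : ∀ x, (∀ i, P.β x (P.e i) = 0 ∧ P.β x (P.f i) = 0) → x = 0 := fun x hx => funext fun l => by
    refine pair_zero hF hθ hz1 x hx l ?_
    obtain ⟨r, rfl⟩ := heven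
    omega
  have S := P.split p fun g hg _ => eq_one_of_fix P hfull hg
  refine of_quotient ((QuotientGroup.mk' (Subgroup.center (Cfsg.SU n F q))).comp (suEquiv n hF).toMonoidHom)
    ((QuotientGroup.mk'_surjective _).comp (suEquiv n hF).surjective)
    (fun K hK => of_split S (tor_comm P hfull) hK) hH

end Cfsg.Lib.Pronormal
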