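import Cfsg.Agent.Known.Pronormal.Base
import Mathlib

/-! A Sylow 2-subgroup of `SL_d(q)` and `SU_d(q)`, `d ≥ 4` a power of 2, with scalar odd normalisers. -/

set_option autoImplicit false
set_option linter.unusedSectionVars false
set_option linter.style.haveILetI false

open Matrix

namespace Cfsg.Lib.Pronormal

open Cfsg.Lib.WreathSylowTwo Cfsg.Lib.Classical

universe u

variable {F : Type u} [Field F] [Fintype F] [DecidableEq F]

/-- The special members of a family. -/
def Fam.special (Γ : Fam F) (n : Type) [Fintype n] [DecidableEq n] : Subgroup (GL n F) :=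
  Γ.grp n ⊓ GeneralLinearGroup.det.ker

/-- The Sylow 2-subgroup with scalar odd normalisers in the special member of degree `d`. -/
def HasTwo (Γ : Fam F) (d : ℕ) : Prop :=
  ∃ (n : Type) (_ : Fintype n) (_ : DecidableEq n), Fintype.card n = d ∧
    ∃ S : Subgroup (GL n F), S ≤ Γ.special n ∧ IsPGroup 2 S ∧
      Nat.card S = 2 ^ padicValNat 2 (Nat.card (Γ.special n)) ∧
      ∀ g ∈ Γ.grp n, Odd (orderOf g) → (∀ s ∈ S, g * s * g⁻¹ ∈ S) → ∃ c : F, (g : Matrix n n F) = c • 1

theorem exists_good (Γ : Fam F) (h2 : (2 : F) ≠ 0)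
    (hbase : ∃ (n : Type) (_ : Fintype n) (_ : DecidableEq n) (W : Subgroup (GL n F)),
      Fintype.card n = 2 ∧ Good Γ W)
    (hstep : ∀ (n : Type) [Fintype n] [DecidableEq n] (k : ℕ), Fintype.card n = 2 ^ (k + 1) →
      padicValNat 2 (Nat.card (Γ.grp (n ⊕ n))) = 2 * padicValNat 2 (Nat.card (Γ.grp n)) + 1) (k : ℕ) :
    ∃ (n : Type) (_ : Fintype n) (_ : DecidableEq n) (W : Subgroup (GL n F)),
      Fintype.card n = 2 ^ (k + 1) ∧ Good Γ W := by
  induction k with
  | zero => simpa using hbase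
  | succ k ih =>
    obtain ⟨n, i1, i2, W, hn, hW⟩ := ih
    haveI : Nonempty n := Fintype.card_pos_iff.1 (by rw [hn]; positivity)
    exact ⟨n ⊕ n, inferInstance, inferInstance, wr W, by rw [Fintype.card_sum, hn]; ring,
      hW.step h2 hn (hstep n k hn)⟩

/-- The kernel of a homomorphism cuts a Sylow subgroup in a Sylow subgroup. -/
theorem card_inf_ker {G A : Type*} [Group G] [Finite G] [CommGroup A] (f : G →* A) {P Γ : Subgroup G} (hP : P ≤ Γ)
    (hP2 : IsPGroup 2 P) (hc : Nat.card P = 2 ^ padicValNat 2 (Nat.card Γ)) :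
    Nat.card ↥(P ⊓ f.ker) = 2 ^ padicValNat 2 (Nat.card ↥(Γ ⊓ f.ker)) := by
  haveI : Fact (Nat.Prime 2) := ⟨Nat.prime_two⟩
  have key : ∀ H : Subgroup G, Nat.card H = Nat.card ↥(H ⊓ f.ker) * Nat.card ↥(H.map f) := by
    intro H
    have h := Subgroup.card_mul_index (f.comp H.subtype).ker
    rw [Subgroup.index_ker, MonoidHom.range_comp, Subgroup.range_subtype] at h
    rw [← h]
    congr 1
    refine Nat.card_congr ?_
    exact
      { toFun := fun x => ⟨x.1.1, Subgroup.mem_inf.2 ⟨x.1.2, x.2⟩⟩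
        invFun := fun x => ⟨⟨x.1, (Subgroup.mem_inf.1 x.2).1⟩, (Subgroup.mem_inf.1 x.2).2⟩
        left_inv := fun _ => rfl
        right_inv := fun _ => rfl }
  haveI : ∀ H : Subgroup G, Finite ↥(H.map f) := fun H =>
    Finite.of_surjective (f.subgroupMap H) (f.subgroupMap_surjective H)
  obtain ⟨a, ha⟩ := (IsPGroup.iff_card.1 (hP2.to_le (inf_le_left : P ⊓ f.ker ≤ P)))
  have hdvd : Nat.card ↥(P ⊓ f.ker) ∣ Nat.card ↥(Γ ⊓ f.ker) := Subgroup.card_dvd_of_le (inf_le_inf_right _ hP)
  have hdvd2 : Nat.card ↥(P.map f) ∣ Nat.card ↥(Γ.map f) := Subgroup.card_dvd_of_le (Subgroup.map_mono hP)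
  obtain ⟨b, hb⟩ := (IsPGroup.iff_card.1 (hP2.map f))
  have hkP := key P
  rw [hc, ha, hb, ← pow_add] at hkP
  have hab : padicValNat 2 (Nat.card Γ) = a + b := Nat.pow_right_injective le_rfl hkP
  rw [key Γ, padicValNat.mul Nat.card_pos.ne' Nat.card_pos.ne'] at hab
  rw [ha] at hdvd
  rw [hb] at hdvd2
  have h1 := (padicValNat_dvd_iff_le Nat.card_pos.ne').1 hdvd
  have h2 := (padicValNat_dvd_iff_le Nat.card_pos.ne').1 hdvd2
  rw [ha]
  congr 1
  omega

theorem hasTwo_of (Γ : Fam F) (h2 : (2 : F) ≠ 0)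
    (hbase : ∃ (n : Type) (_ : Fintype n) (_ : DecidableEq n) (W : Subgroup (GL n F)),
      Fintype.card n = 2 ∧ Good Γ W)
    (hstep : ∀ (n : Type) [Fintype n] [DecidableEq n] (k : ℕ), Fintype.card n = 2 ^ (k + 1) →
      padicValNat 2 (Nat.card (Γ.grp (n ⊕ n))) = 2 * padicValNat 2 (Nat.card (Γ.grp n)) + 1)
    {w : ℕ} (hw : 2 ≤ w) : HasTwo Γ (2 ^ w) := by
  obtain ⟨k, rfl⟩ : ∃ k, w = k + 2 := ⟨w - 2, by omega⟩
  obtain ⟨n, i1, i2, W, hn, hW⟩ := exists_good Γ h2 hbase hstep k
  haveI : Nonempty n := Fintype.card_pos_iff.1 (by rw [hn]; positivity)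
  have hgood := hW.step h2 hn (hstep n k hn)
  refine ⟨n ⊕ n, inferInstance, inferInstance, by rw [Fintype.card_sum, hn]; ring,
    wr W ⊓ GeneralLinearGroup.det.ker, inf_le_inf_right _ hgood.le, hgood.two.to_le inf_le_left, ?_,
    fun g hg ho hnm => hW.special h2 hn (hstep n k hn) g hg ho hnm⟩
  exact card_inf_ker _ hgood.le hgood.two hgood.card

theorem two_ne_of_odd (hq : Odd (Fintype.card F)) : (2 : F) ≠ 0 := by
  refine Ring.two_ne_zero fun h => ?_
  have := FiniteField.even_card_of_char_two h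
  rw [Nat.odd_iff] at hq
  omega

theorem hasTwo_lin (hq : Odd (Fintype.card F)) {w : ℕ} (hw : 2 ≤ w) : HasTwo (lin F) (2 ^ w) := by
  have h1 : 1 < Fintype.card F := Fintype.one_lt_card
  have h2 := two_ne_of_odd hq
  refine hasTwo_of _ h2 ?_ (fun n _ _ k hn => ?_) hw
  · by_cases h4 : 4 ∣ tw (Fintype.card F) false 0
    · obtain ⟨hr, hv⟩ := fv_mono hq h1 h4
      obtain ⟨W, hW⟩ := good_mono (Γ := lin F) h2 (by rw [padic_lin hq]; simpa using hr)
        (by rw [padic_lin hq, padic_lin hq]; simpa using hv)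
      exact ⟨_, inferInstance, inferInstance, W, by simp, hW⟩
    · have hv := fv_rot hq h1 h4
      have hmod : Fintype.card F % 4 = 3 := by
        have h := h4
        simp [tw] at h
        rw [Nat.odd_iff] at hq
        omega
      have hsq : ¬ IsSquare (-1 : F) := by rw [FiniteField.isSquare_neg_one_iff]; omega
      obtain ⟨a, b, hab⟩ := exists_neg_one_sum (F := F)
      let J : GL (Fin 2) F := GeneralLinearGroup.mkOfDetNeZero (rot 0 1) (by simp [det_rot])
      let g₀ : GL (Fin 2) F := GeneralLinearGroup.mkOfDetNeZero (rot a b) (by rw [det_rot, hab]; simp)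
      obtain ⟨W, hW⟩ := good_rot (Γ := lin F) h2 (s := padicValNat 2 (Fintype.card F ^ 2 - 1))
        (by
          rw [show rotGL ⊓ (lin F).grp (Fin 2) = rotGL from inf_top_eq _, card_rotGL hmod])
        (by rw [padic_lin hq, Fintype.card_fin, hv]) (J := J) rfl (Subgroup.mem_top _) (Subgroup.mem_top _)
        (g₀ := g₀) (Subgroup.mem_inf.2 ⟨⟨a, b, rfl⟩, Subgroup.mem_top _⟩)
        (Units.ext (show (rot a b).det = -1 by rw [det_rot, hab]))
        (fun g _ => ⟨(Fintype.card F - 1) / 2, by rw [Nat.odd_iff]; omega, by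
          rw [show 2 * ((Fintype.card F - 1) / 2) = Fintype.card Fˣ by rw [Fintype.card_units]; omega,
            pow_card_eq_one]⟩)
        (fun g _ y hy hd => hsq ⟨y, by
          have := congrArg Units.val hd
          rw [GeneralLinearGroup.val_det_apply, hy, det_rot] at this
          simpa using this.symm⟩)
      exact ⟨_, inferInstance, inferInstance, W, by simp, hW⟩
  · rw [padic_lin hq, padic_lin hq, Fintype.card_sum, hn, fv_step hq h1]

theorem exists_i {q : ℕ} (hF : Fintype.card F = q ^ 2) (hq : q % 4 = 1) :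
    ∃ i : F, i * i = -1 ∧ powConj hF i = i := by
  obtain ⟨i, hi⟩ : IsSquare (-1 : F) := by
    rw [FiniteField.isSquare_neg_one_iff, hF, Nat.pow_mod, hq]; norm_num
  refine ⟨i, hi.symm, ?_⟩
  obtain ⟨j, hj⟩ : ∃ j, q = 4 * j + 1 := ⟨q / 4, by omega⟩
  rw [powConj_apply, hj, pow_add, pow_mul, pow_one,
    show i ^ 4 = 1 by linear_combination -(i * i - 1) * hi, one_pow, one_mul]

theorem mem_uniGrp_rot {σ : F →+* F} {g : GL (Fin 2) F} {x y : F} (hg : (g : Matrix (Fin 2) (Fin 2) F) = rot x y) :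
    g ∈ uniGrp σ (Fin 2) ↔ σ x * x + σ y * y = 1 ∧ σ x * y = σ y * x := by
  rw [mem_uniGrp, hg, show ((rot x y)ᵀ).map σ = rot (σ x) (-σ y) by
    ext i j; fin_cases i <;> fin_cases j <;> simp [rot], rot_mul, ← rot_one]
  constructor
  · intro h
    obtain ⟨h1, h2⟩ := rot_inj h
    exact ⟨by linear_combination h1, by linear_combination h2⟩
  · rintro ⟨h1, h2⟩
    congr 1
    · linear_combination h1
    · linear_combination h2

theorem card_rot_uni {q : ℕ} (hF : Fintype.card F = q ^ 2) (h2 : (2 : F) ≠ 0) {i : F} (hi : i * i = -1)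
    (hσi : powConj hF i = i) :
    Nat.card ↥(rotGL ⊓ (uni (powConj hF)).grp (Fin 2)) = q ^ 2 - 1 ∧
      ∃ g ∈ rotGL ⊓ (uni (powConj hF)).grp (Fin 2), GeneralLinearGroup.det g = -1 := by
  classical
  set σ := powConj hF
  have hinv : ∀ x, σ (σ x) = x := powConj_invol hF
  have hi0 : i ≠ 0 := by rintro rfl; simp at hi
  -- the parametrisation by the non-zero elements
  let X : Fˣ → F := fun a => ((a : F) + (σ a)⁻¹) / 2
  let Y : Fˣ → F := fun a => ((a : F) - (σ a)⁻¹) / (2 * i)
  have hσne : ∀ a : Fˣ, σ a ≠ 0 := fun a => (map_ne_zero σ).2 a.ne_zero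
  have hX : ∀ a : Fˣ, X a + i * Y a = a := fun a => by
    simp only [X, Y]; field_simp; ring
  have hY : ∀ a : Fˣ, X a - i * Y a = (σ a)⁻¹ := fun a => by
    simp only [X, Y]; field_simp; ring
  have hdet : ∀ a : Fˣ, (rot (X a) (Y a)).det = a * (σ a)⁻¹ := fun a => by
    rw [det_rot, show X a * X a + Y a * Y a = (X a + i * Y a) * (X a - i * Y a) by
      linear_combination (Y a * Y a) * hi, hX, hY]
  let mk : Fˣ → GL (Fin 2) F := fun a => GeneralLinearGroup.mkOfDetNeZero (rot (X a) (Y a)) (by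
    rw [hdet]; exact mul_ne_zero a.ne_zero (inv_ne_zero (hσne a)))
  have hmk : ∀ a, mk a ∈ rotGL ⊓ (uni σ).grp (Fin 2) := fun a => by
    refine Subgroup.mem_inf.2 ⟨⟨X a, Y a, rfl⟩, (mem_uniGrp_rot rfl).2 ?_⟩
    have e1 : σ (X a + i * Y a) * (X a - i * Y a) = 1 := by rw [hX, hY]; exact mul_inv_cancel₀ (hσne a)
    have e2 := congrArg σ e1
    simp only [map_add, map_sub, map_mul, map_one, hσi, hinv] at e1 e2
    constructor
    · refine mul_left_cancel₀ h2 ?_
      linear_combination e1 + e2 + 2 * σ (Y a) * Y a * hi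
    · refine mul_left_cancel₀ (mul_ne_zero h2 hi0) ?_
      linear_combination e2 - e1
  refine ⟨?_, ?_⟩
  · rw [← Nat.card_congr (Equiv.ofBijective (fun a => (⟨mk a, hmk a⟩ : ↥(rotGL ⊓ (uni σ).grp (Fin 2))))
      ⟨fun a b h => ?_, fun g => ?_⟩), Nat.card_eq_fintype_card, Fintype.card_units, hF]
    · obtain ⟨h1, h2'⟩ := rot_inj (congrArg (fun g : ↥(rotGL ⊓ (uni σ).grp (Fin 2)) =>
        ((g.1 : GL (Fin 2) F) : Matrix (Fin 2) (Fin 2) F)) h)
      exact Units.ext (by rw [← hX a, ← hX b, h1, h2'])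
    · obtain ⟨g, hg⟩ := g
      obtain ⟨⟨x, y, hxy⟩, hgΓ⟩ := Subgroup.mem_inf.1 hg
      obtain ⟨h1, h2'⟩ := (mem_uniGrp_rot hxy).1 hgΓ
      have hne : x + i * y ≠ 0 := by
        intro h
        have := (Matrix.isUnit_iff_isUnit_det _).1 g.isUnit
        rw [hxy, det_rot, show x * x + y * y = (x - i * y) * (x + i * y) by linear_combination (y * y) * hi, h,
          mul_zero] at this
        exact not_isUnit_zero this
      have hs : σ (x + i * y) * (x - i * y) = 1 := by
        rw [map_add, map_mul, hσi]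
        linear_combination h1 - i * h2' - σ y * y * hi
      refine ⟨Units.mk0 _ hne, Subtype.ext (Units.ext ?_)⟩
      show rot (X _) (Y _) = (g : Matrix (Fin 2) (Fin 2) F)
      rw [hxy]
      have hb : (σ (x + i * y))⁻¹ = x - i * y := inv_eq_of_mul_eq_one_right hs
      congr 1
      · simp only [X, Units.val_mk0, hb]; field_simp; ring
      · simp only [Y, Units.val_mk0, hb]; field_simp; ring
  · obtain ⟨z, hz⟩ : ∃ z, σ z ≠ z := (powConj_isConj hF).ne_id
    let a : Fˣ := Units.mk0 (z - σ z) (sub_ne_zero.2 (Ne.symm hz))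
    have ha : σ a = -(a : F) := by simp [a, hinv]
    refine ⟨mk a, hmk a, Units.ext ?_⟩
    show (rot (X a) (Y a)).det = -1
    rw [hdet, ha, inv_neg, mul_neg, mul_inv_cancel₀ a.ne_zero]

theorem hasTwo_uni {q : ℕ} (hF : Fintype.card F = q ^ 2) (hq : Odd q) {w : ℕ} (hw : 2 ≤ w) :
    HasTwo (uni (powConj hF)) (2 ^ w) := by
  have h1 : 1 < q := by
    have := Fintype.one_lt_card (α := F)
    rw [hF] at this
    exact (Nat.one_lt_pow_iff two_ne_zero).1 this
  have h2 : (2 : F) ≠ 0 := two_ne_of_odd (hF ▸ hq.pow)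
  refine hasTwo_of _ h2 ?_ (fun n _ _ k hn => ?_) hw
  · by_cases h4 : 4 ∣ tw q true 0
    · obtain ⟨hr, hv⟩ := fv_mono hq h1 h4
      obtain ⟨W, hW⟩ := good_mono (Γ := uni (powConj hF)) h2 (by rw [padic_uniGrp hF hq h1]; simpa using hr)
        (by rw [padic_uniGrp hF hq h1, padic_uniGrp hF hq h1]; simpa using hv)
      exact ⟨_, inferInstance, inferInstance, W, by simp, hW⟩
    · have hv := fv_rot hq h1 h4
      have hmod : q % 4 = 1 := by
        simp [tw] at h4
        rw [Nat.odd_iff] at hq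
        omega
      obtain ⟨i, hi, hσi⟩ := exists_i hF hmod
      obtain ⟨hcard, g₀, hg₀, hd₀⟩ := card_rot_uni hF h2 hi hσi
      let J : GL (Fin 2) F := GeneralLinearGroup.mkOfDetNeZero (rot 0 1) (by simp [det_rot])
      obtain ⟨W, hW⟩ := good_rot (Γ := uni (powConj hF)) h2 (s := padicValNat 2 (q ^ 2 - 1))
        (by rw [hcard]) (by rw [padic_uniGrp hF hq h1, Fintype.card_fin, hv]) (J := J) rfl
        ((mem_uniGrp_rot (g := J) rfl).2 ⟨by simp, by simp⟩)
        (by
          show sgl ∈ uniGrp _ _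
          rw [mem_uniGrp, sgl_val]
          ext a b; fin_cases a <;> fin_cases b <;> simp [Matrix.mul_apply, Fin.sum_univ_two])
        hg₀ hd₀
        (fun g hg => ⟨(q + 1) / 2, by rw [Nat.odd_iff]; omega, by
          rw [show 2 * ((q + 1) / 2) = q + 1 by omega]
          refine Units.ext ?_
          have h := congrArg Matrix.det (mem_uniGrp.1 hg)
          rw [det_mul, show ((g : Matrix (Fin 2) (Fin 2) F)ᵀ).map (powConj hF) =
            (powConj hF).mapMatrix (g : Matrix (Fin 2) (Fin 2) F)ᵀ from rfl, ← RingHom.map_det, det_transpose,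
            det_one, powConj_apply, ← pow_succ] at h
          rw [Units.val_pow_eq_pow_val, GeneralLinearGroup.val_det_apply, h, Units.val_one]⟩)
        (fun g hg y hy hd => by
          have h' := ((mem_uniGrp_rot hy).1 hg).1
          have hyy : y * y = -1 := by
            have := congrArg Units.val hd
            rw [GeneralLinearGroup.val_det_apply, hy, det_rot] at this
            simpa using this
          rcases mul_self_eq_mul_self_iff.1 (hyy.trans hi.symm) with rfl | rfl
          · rw [hσi] at h'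
            simp [hi] at h'
            exact h2 (by linear_combination -h')
          · rw [map_neg, hσi] at h'
            simp [hi] at h'
            exact h2 (by linear_combination -h'))
      exact ⟨_, inferInstance, inferInstance, W, by simp, hW⟩
  · rw [padic_uniGrp hF hq h1, padic_uniGrp hF hq h1, Fintype.card_sum, hn, fv_step hq h1]

end Cfsg.Lib.Pronormal
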