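import Cfsg.Agent.Known.Pronormal.Criterion
import Cfsg.Agent.Known.Pronormal.Existence
import Mathlib

/-! Pronormality in `PSL_d(q)` and `PSU_d(q)`, `q` odd, `d ≥ 4` a power of 2. -/

set_option autoImplicit false
set_option linter.unusedSectionVars false
set_option linter.style.haveILetI false

open Matrix

namespace Cfsg.Lib.Pronormal

open Cfsg.Lib.Classical

universe u v

variable {F : Type u} [Field F] [Fintype F] [DecidableEq F]

theorem orderOf_odd_pow {G : Type*} [Group G] [Finite G] (y : G) :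
    ∃ a m : ℕ, Odd m ∧ orderOf y = 2 ^ a * m := by
  obtain ⟨a, m, hm, he⟩ := Nat.exists_eq_pow_mul_and_not_dvd (orderOf_pos y).ne' 2 (by norm_num)
  exact ⟨a, m, Nat.odd_iff.2 (by omega), he⟩

/-- Pronormality of the subgroups of odd index modulo the centre. -/
theorem pronormal_quot {G : Type v} [Group G] [Finite G] {n : Type} [Fintype n] [DecidableEq n] (Γ : Fam F)
    (φ : G →* GL n F) (hφ : Function.Injective φ) (hrange : φ.range = Γ.special n)
    {S : Subgroup (GL n F)} (hS : S ≤ Γ.special n) (hS2 : IsPGroup 2 S)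
    (hcard : Nat.card S = 2 ^ padicValNat 2 (Nat.card (Γ.special n)))
    (hscal : ∀ g ∈ Γ.grp n, Odd (orderOf g) → (∀ s ∈ S, g * s * g⁻¹ ∈ S) → ∃ c : F, (g : Matrix n n F) = c • 1)
    (H : Subgroup (G ⧸ Subgroup.center G)) (hH : Odd H.index) : Cfsg.IsPronormal H := by
  haveI : Fact (Nat.Prime 2) := ⟨Nat.prime_two⟩
  set P0 : Subgroup G := S.comap φ with hP0def
  have hSle : S ≤ φ.range := hrange ▸ hS
  have hP0 : Nat.card P0 = Nat.card S := by
    rw [← Subgroup.card_map_of_injective hφ (K := P0), hP0def, Subgroup.map_comap_eq_self hSle]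
  have hG : Nat.card G = Nat.card (Γ.special n) := by
    rw [← hrange]; exact Nat.card_congr (MonoidHom.ofInjective hφ).toEquiv
  let P : Sylow 2 G := Sylow.ofCard P0 (by
    rw [hP0, hcard, Nat.factorization_def _ Nat.prime_two, hG])
  have hP : (P : Subgroup G) = P0 := Sylow.coe_ofCard _ _
  set π := QuotientGroup.mk' (Subgroup.center G) with hπ
  set R := P.mapSurjective (f := π) (QuotientGroup.mk'_surjective _) with hR
  have hRc : (R : Subgroup _) = (P : Subgroup G).map π := rfl
  refine of_self_normalizing R ?_ (Nat.not_even_iff_odd.2 hH ∘ even_iff_two_dvd.2)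
  set N := Subgroup.normalizer ((R : Subgroup (G ⧸ Subgroup.center G)) : Set (G ⧸ Subgroup.center G)) with hN
  -- odd order elements of the normaliser are trivial
  have hodd : ∀ x ∈ N, Odd (orderOf x) → x = 1 := by
    intro x hx hox
    obtain ⟨y, rfl⟩ := QuotientGroup.mk'_surjective (Subgroup.center G) x
    obtain ⟨a, m, hm, he⟩ := orderOf_odd_pow y
    set g := y ^ 2 ^ a with hgdef
    have hgo : orderOf g = m := by
      rw [hgdef, orderOf_pow' _ (by positivity), he, Nat.gcd_eq_right (dvd_mul_right _ _),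
        Nat.mul_div_cancel_left _ (by positivity)]
    have hgN : π g ∈ N := by rw [hgdef, map_pow]; exact pow_mem hx _
    have hgP : ∀ s ∈ (P : Subgroup G), g * s * g⁻¹ ∈ (P : Subgroup G) := by
      intro s hs
      have h1 : π (g * s * g⁻¹) ∈ (R : Subgroup _) := by
        rw [map_mul, map_mul, map_inv]
        exact (Subgroup.mem_normalizer_iff.1 hgN (π s)).1 (hRc ▸ Subgroup.mem_map_of_mem π hs)
      rw [hRc, Subgroup.mem_map] at h1
      obtain ⟨s', hs', e⟩ := h1
      rw [hπ, QuotientGroup.mk'_apply, QuotientGroup.mk'_apply, QuotientGroup.eq] at e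
      set z := s'⁻¹ * (g * s * g⁻¹) with hzdef
      have hcomm : Commute (g * s * g⁻¹) s'⁻¹ := by
        have h := (Subgroup.mem_center_iff.1 e s'⁻¹)
        show g * s * g⁻¹ * s'⁻¹ = s'⁻¹ * (g * s * g⁻¹)
        calc g * s * g⁻¹ * s'⁻¹ = s' * (s'⁻¹ * (g * s * g⁻¹) * s'⁻¹) := by group
          _ = s' * (s'⁻¹ * (s'⁻¹ * (g * s * g⁻¹))) := by rw [← h]
          _ = s'⁻¹ * (g * s * g⁻¹) := by group
      obtain ⟨j, hj⟩ := P.isPGroup' ⟨s, hs⟩
      obtain ⟨j', hj'⟩ := P.isPGroup' ⟨s', hs'⟩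
      have hz2 : IsPGroup 2 (Subgroup.zpowers z) := by
        have hz : z ^ 2 ^ (j + j') = 1 := by
          rw [hzdef, hcomm.symm.mul_pow, conj_pow, inv_pow,
            show s ^ 2 ^ (j + j') = 1 by
              rw [pow_add, pow_mul, show s ^ 2 ^ j = 1 by simpa using congrArg Subtype.val hj, one_pow],
            show s' ^ 2 ^ (j + j') = 1 by
              rw [add_comm, pow_add, pow_mul, show s' ^ 2 ^ j' = 1 by simpa using congrArg Subtype.val hj', one_pow]]
          simp
        rintro ⟨w, k, rfl⟩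
        refine ⟨j + j', Subtype.ext ?_⟩
        rw [SubgroupClass.coe_pow, ← zpow_natCast, ← _root_.zpow_mul, mul_comm, _root_.zpow_mul, zpow_natCast, hz,
          _root_.one_zpow, Subgroup.coe_one]
      have hzc : z ∈ Subgroup.center G := e
      have hzn : (P : Subgroup G) ≤ Subgroup.normalizer ((Subgroup.zpowers z : Subgroup G) : Set G) := by
        intro p _
        rw [Subgroup.mem_normalizer_iff]
        intro v
        constructor
        · intro hv
          have hvc := Subgroup.mem_center_iff.1 (Subgroup.zpowers_le.2 hzc hv) p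
          rw [hvc, mul_inv_cancel_right]; exact hv
        · intro hv
          have hvc := Subgroup.mem_center_iff.1 (Subgroup.zpowers_le.2 hzc hv) p
          have : p * v * p⁻¹ = v := by
            have h2 : p * (p * v * p⁻¹) * p⁻¹ = p * v * p⁻¹ := by rw [hvc, mul_inv_cancel_right]
            exact mul_left_cancel (mul_right_cancel h2)
          rwa [this] at hv
      have hmax := P.is_maximal' (IsPGroup.to_sup_of_normal_right' P.isPGroup' hz2 hzn) le_sup_left
      have hzP : z ∈ (P : Subgroup G) := hmax ▸ Subgroup.mem_sup_right (Subgroup.mem_zpowers z)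
      rw [show g * s * g⁻¹ = s' * z by rw [hzdef]; group]
      exact mul_mem hs' hzP
    have hmem : φ g ∈ Γ.special n := hrange ▸ ⟨g, rfl⟩
    obtain ⟨c, hc⟩ := hscal (φ g) (Subgroup.mem_inf.1 hmem).1 (by rw [orderOf_injective φ hφ, hgo]; exact hm)
      (fun s hs => by
        obtain ⟨s₀, rfl⟩ := hSle hs
        rw [← map_inv, ← map_mul, ← map_mul]
        exact (hP ▸ hgP s₀ (hP.symm ▸ hs) : g * s₀ * g⁻¹ ∈ P0))
    have hgc : g ∈ Subgroup.center G := Subgroup.mem_center_iff.2 fun t => hφ (by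
      rw [map_mul, map_mul]
      exact Units.ext (by simp [hc]))
    have h1 : (π y) ^ 2 ^ a = 1 := by
      rw [← map_pow, ← hgdef]; exact (QuotientGroup.eq_one_iff g).2 hgc
    have h2 := orderOf_dvd_of_pow_eq_one h1
    obtain ⟨b, -, hb⟩ := (Nat.dvd_prime_pow Nat.prime_two).1 h2
    rcases b.eq_zero_or_pos with rfl | hb0
    · exact orderOf_eq_one_iff.1 (by rw [hb, pow_zero])
    · exfalso
      rw [hb, Nat.odd_iff, Nat.pow_mod, Nat.mod_self, zero_pow hb0.ne'] at hox
      omega
  have hN2 : IsPGroup 2 N := by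
    intro x
    obtain ⟨a, m, hm, he⟩ := orderOf_odd_pow x
    refine ⟨a, Subtype.ext ?_⟩
    simp only [SubgroupClass.coe_pow, Subgroup.coe_one]
    refine hodd _ (pow_mem x.2 _) (Odd.of_dvd_nat hm (orderOf_dvd_of_pow_eq_one ?_))
    rw [← pow_mul, ← he, ← Subgroup.orderOf_coe x, pow_orderOf_eq_one]
  exact (R.is_maximal' hN2 Subgroup.le_normalizer).le

theorem pronormal_psl_odd (hq : Odd (Fintype.card F)) {w : ℕ} (hw : 2 ≤ w)
    (H : Subgroup (Matrix.ProjectiveSpecialLinearGroup (Fin (2 ^ w)) F)) (hH : Odd H.index) :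
    Cfsg.IsPronormal H := by
  obtain ⟨n, i1, i2, hn, S, hS, hS2, hcard, hscal⟩ := hasTwo_lin hq hw
  let e : Fin (2 ^ w) ≃ n := (Fintype.equivFinOfCardEq hn).symm
  refine pronormal_quot (lin F) ((reGL e).toMonoidHom.comp SpecialLinearGroup.toGL)
    ((reGL e).injective.comp SpecialLinearGroup.toGL_injective) ?_ hS hS2 hcard hscal H hH
  ext g
  constructor
  · rintro ⟨A, rfl⟩
    refine Subgroup.mem_inf.2 ⟨Subgroup.mem_top _, MonoidHom.mem_ker.2 ?_⟩
    rw [MonoidHom.comp_apply, MulEquiv.coe_toMonoidHom, det_reGL]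
    exact Units.ext A.2
  · intro hg
    obtain ⟨-, hd⟩ := Subgroup.mem_inf.1 hg
    have hd' : GeneralLinearGroup.det ((reGL e).symm g) = 1 := by
      rw [← det_reGL e, MulEquiv.apply_symm_apply]; exact MonoidHom.mem_ker.1 hd
    refine ⟨⟨((reGL e).symm g : GL (Fin (2 ^ w)) F).val, congrArg Units.val hd'⟩, ?_⟩
    show reGL e _ = g
    conv_rhs => rw [← (reGL e).apply_symm_apply g]
    exact congrArg _ (Units.ext rfl)

theorem pronormal_psu_odd {q : ℕ} (hF : Fintype.card F = q ^ 2) (hq : Odd q) {w : ℕ} (hw : 2 ≤ w)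
    (H : Subgroup (Cfsg.PSU (2 ^ w) F q)) (hH : Odd H.index) : Cfsg.IsPronormal H := by
  obtain ⟨n, i1, i2, hn, S, hS, hS2, hcard, hscal⟩ := hasTwo_uni hF hq hw
  let e : Fin (2 ^ w) ≃ n := (Fintype.equivFinOfCardEq hn).symm
  refine pronormal_quot (uni (powConj hF))
    (((reGL e).toMonoidHom.comp SpecialLinearGroup.toGL).comp (Cfsg.SU (2 ^ w) F q).subtype)
    (((reGL e).injective.comp SpecialLinearGroup.toGL_injective).comp Subtype.val_injective) ?_ hS hS2 hcard
    hscal H hH
  ext g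
  constructor
  · rintro ⟨⟨A, hA⟩, rfl⟩
    refine Subgroup.mem_inf.2 ⟨?_, MonoidHom.mem_ker.2 ?_⟩
    · show reGL e (SpecialLinearGroup.toGL A) ∈ uniGrp _ _
      rw [reGL_mem_uniGrp, uniGrp_fin hF]
      exact hA
    · show GeneralLinearGroup.det (reGL e (SpecialLinearGroup.toGL A)) = 1
      rw [det_reGL]
      exact Units.ext A.2
  · intro hg
    obtain ⟨hu, hd⟩ := Subgroup.mem_inf.1 hg
    have hd' : GeneralLinearGroup.det ((reGL e).symm g) = 1 := by
      rw [← det_reGL e, MulEquiv.apply_symm_apply]; exact MonoidHom.mem_ker.1 hd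
    have hu' : (reGL e).symm g ∈ Cfsg.GU (2 ^ w) F q := by
      rw [← uniGrp_fin hF, ← reGL_mem_uniGrp e, MulEquiv.apply_symm_apply]
      exact hu
    refine ⟨⟨⟨((reGL e).symm g : GL (Fin (2 ^ w)) F).val, congrArg Units.val hd'⟩, hu'⟩, ?_⟩
    show reGL e _ = g
    conv_rhs => rw [← (reGL e).apply_symm_apply g]
    exact congrArg _ (Units.ext rfl)

end Cfsg.Lib.Pronormal
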