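import Cfsg.Agent.Known.Pronormal.Criterion
import Cfsg.Agent.Known.SLTwo.Sylow
import Cfsg.Agent.Known.AltPronormal
import Mathlib

/-! Subgroups of odd index of `SL₂(q)`, `q ≡ ±3 mod 8`, are pronormal. -/

set_option autoImplicit false
set_option linter.unusedSectionVars false
set_option linter.style.haveILetI false

open Matrix
open scoped MatrixGroups commutatorElement

namespace Cfsg.Lib.Pronormal

open Cfsg.Lib.GLTwo

universe u

variable {F : Type u} [Field F] [Fintype F]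

/-- Two anticommuting square roots of `-1` do not both normalise a nonzero square-zero line. -/
theorem no_anticomm {i j N : Matrix (Fin 2) (Fin 2) F} (h2 : (2 : F) ≠ 0) (hN : N * N = 0) (hN0 : N ≠ 0)
    (hi : i * i = -1) (hij : i * j = -(j * i)) (hj : j * j = -1) {a b : F} (ha : i * N = a • (N * i))
    (hb : j * N = b • (N * j)) : False := by
  have hne : ∀ {x : Matrix (Fin 2) (Fin 2) F} {c : F}, x * x = -1 → x * N = c • (N * x) → c * c = 1 := by
    intro x c hx hc
    have h : x * (x * N) = (c * c) • (N * (x * x)) := by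
      rw [hc, mul_smul_comm, ← mul_assoc x N x, hc, smul_mul_assoc, smul_smul, mul_assoc N x x]
    rw [← mul_assoc, hx, neg_one_mul, mul_neg, mul_one, smul_neg, neg_inj] at h
    by_contra hcc
    have h0 : (c * c - 1) • N = 0 := by rw [sub_smul, one_smul, ← h, sub_self]
    exact hN0 ((smul_eq_zero.1 h0).resolve_left (sub_ne_zero.2 hcc))
  -- a commuting root is a scalar plus a nilpotent
  have hflip : ∀ {x : Matrix (Fin 2) (Fin 2) F} {y : Matrix (Fin 2) (Fin 2) F}, x * x = -1 →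
      x * N = N * x → x * y = -(y * x) → y * y = -1 → False := by
    intro x y hx hxN hxy hy
    have hN' : NonScalar N := by
      by_contra h
      obtain ⟨c, hc⟩ : ∃ c : F, N = c • 1 := ⟨_, eq_smul_one h⟩
      rw [hc, smul_mul_smul_comm, mul_one, smul_eq_zero] at hN
      rcases hN with h0 | h0
      · exact hN0 (by rw [hc, mul_self_eq_zero.1 h0, zero_smul])
      · exact one_ne_zero h0
    obtain ⟨c, d, hcd⟩ := exists_combo hN' hxN
    have hx' : x = c • 1 + d • N := hcd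
    rw [hx', mul_add, add_mul, add_mul, smul_mul_smul_comm, smul_mul_smul_comm, smul_mul_smul_comm,
      smul_mul_smul_comm, hN, smul_zero, add_zero, mul_one, one_mul, mul_one, mul_comm d c, add_assoc,
      ← add_smul] at hx
    have hcc : (c * c + 1) • (1 : Matrix (Fin 2) (Fin 2) F) + (c * d + c * d) • N = 0 := by
      rw [add_smul, one_smul, add_assoc, add_comm 1, ← add_assoc, hx, neg_add_cancel]
    have h1 : (c * c + 1) • N = 0 := by
      have h := congrArg (· * N) hcc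
      simpa [add_mul, smul_mul_assoc, hN] using h
    have hc1 : c * c + 1 = 0 := (smul_eq_zero.1 h1).resolve_right hN0
    have hd : d = 0 := by
      rw [hc1, zero_smul, zero_add, smul_eq_zero] at hcc
      have h3 : (2 : F) * (c * d) = 0 := by linear_combination hcc.resolve_right hN0
      rcases mul_eq_zero.1 ((mul_eq_zero.1 h3).resolve_left h2) with h | h
      · rw [h, mul_zero, zero_add] at hc1
        exact absurd hc1 one_ne_zero
      · exact h
    rw [hx', hd, zero_smul, add_zero, smul_mul_assoc, one_mul, mul_smul_comm, mul_one] at hxy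
    have h4 : ((2 : F) * c) • y = 0 := by
      rw [mul_smul, two_smul]
      conv_lhs => arg 1; rw [hxy]
      rw [neg_add_cancel]
    have hy0 : y ≠ 0 := fun h => by rw [h, mul_zero] at hy; exact neg_ne_zero.2 one_ne_zero hy.symm
    have hc : c = 0 := (mul_eq_zero.1 ((smul_eq_zero.1 h4).resolve_right hy0)).resolve_left h2
    rw [hc, mul_zero, zero_add] at hc1
    exact one_ne_zero hc1
  rcases mul_self_eq_one_iff.1 (hne hi ha) with rfl | rfl
  · exact hflip hi (by rw [ha, one_smul]) hij hj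
  rcases mul_self_eq_one_iff.1 (hne hj hb) with rfl | rfl
  · exact hflip hj (by rw [hb, one_smul]) (by rw [hij, neg_neg]) hi
  -- both invert, so the product centralises
  refine hflip (x := i * j) (y := i) ?_ ?_ ?_ hi
  · calc i * j * (i * j) = i * (j * i) * j := by simp only [mul_assoc]
      _ = -1 := by
        rw [show j * i = -(i * j) by rw [hij, neg_neg], mul_neg, neg_mul, ← mul_assoc, hi, neg_one_mul, neg_mul, hj,
          neg_neg]
  · rw [mul_assoc, hb, mul_smul_comm, ← mul_assoc, ha, smul_mul_assoc, smul_smul, mul_assoc]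
    simp
  · rw [mul_assoc, ← mul_assoc i i j, hi, neg_one_mul, show j * i = -(i * j) by rw [hij, neg_neg], mul_neg,
      ← mul_assoc, hi, neg_one_mul, neg_neg]

/-- An element of `p`-power order is unipotent. -/
theorem unip_sq_zero {p : ℕ} [Fact p.Prime] [CharP F p] {u : SL(2, F)} {k : ℕ} (hu : u ^ p ^ k = 1) :
    ((u : Matrix (Fin 2) (Fin 2) F) - 1) * ((u : Matrix (Fin 2) (Fin 2) F) - 1) = 0 := by
  set N := (u : Matrix (Fin 2) (Fin 2) F) - 1 with hN
  have h0 : N ^ p ^ k = 0 := by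
    have hu' : (u : Matrix (Fin 2) (Fin 2) F) ^ p ^ k = 1 :=
      (Matrix.SpecialLinearGroup.coe_pow u (p ^ k)).symm.trans (by rw [hu]; rfl)
    rw [hN, sub_pow_char_pow_of_commute p k (Commute.one_right _), one_pow, hu', sub_self]
  have ht : N 0 0 + N 1 1 = 0 := by
    have h := (Matrix.isNilpotent_trace_of_isNilpotent ⟨_, h0⟩ : IsNilpotent N.trace).eq_zero
    rwa [Matrix.trace_fin_two] at h
  have hd : N 0 0 * N 1 1 - N 0 1 * N 1 0 = 0 := by
    have h := congrArg Matrix.det h0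
    rw [det_pow, det_zero, pow_eq_zero_iff (pow_ne_zero _ (Fact.out : p.Prime).ne_zero)] at h
    rwa [Matrix.det_fin_two] at h
  ext a b
  fin_cases a <;> fin_cases b <;> simp [Matrix.mul_apply, Fin.sum_univ_two]
  · linear_combination N 0 0 * ht - hd
  · linear_combination N 0 1 * ht
  · linear_combination N 1 0 * ht
  · linear_combination N 1 1 * ht - hd

variable (hodd : Odd (Fintype.card F))
include hodd

theorem neg_one_ne_one' : (-1 : SL(2, F)) ≠ 1 := fun h => by
  have := congrArg (fun z : SL(2, F) => (z : Matrix (Fin 2) (Fin 2) F) 0 0) h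
  simp at this
  exact two_ne_zero_of_odd hodd (by linear_combination -this)

theorem neg_one_not_odd : ¬ Odd (orderOf (-1 : SL(2, F))) := by
  rw [orderOf_eq_prime (p := 2) (show (-1 : SL(2, F)) ^ 2 = 1 by simp) (neg_one_ne_one' hodd)]
  decide

/-- An odd order group normalised by two anticommuting elements of order 4 is abelian and semisimple. -/
theorem odd_abelian {O : Subgroup SL(2, F)} (hO : Odd (Nat.card O)) {R : Subgroup SL(2, F)} (hR : IsPGroup 2 R)
    (hRO : R ≤ Subgroup.normalizer (O : Set SL(2, F))) {i j : SL(2, F)} (hi : i ∈ R) (hj : j ∈ R)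
    (hi2 : i * i = -1) (hj2 : j * j = -1) (hij : i * j = -(j * i)) :
    (∀ z ∈ O, z ≠ 1 → Reg z) ∧ ∀ x ∈ O, ∀ y ∈ O, x * y = y * x := by
  classical
  have h2 := two_ne_zero_of_odd hodd
  obtain ⟨p, hp⟩ := CharP.exists F
  haveI hpf : Fact p.Prime := ⟨CharP.char_is_prime F p⟩
  have hodd' : ∀ z ∈ O, Odd (orderOf z) := fun z hz =>
    Odd.of_dvd_nat hO (Subgroup.orderOf_dvd_natCard O hz)
  have hnm : ∀ z ∈ O, z ≠ -1 := fun z hz h => neg_one_not_odd hodd (h ▸ hodd' z hz)
  -- no elements of order `p`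
  have hpO : ¬ p ∣ Nat.card O := by
    intro hd
    haveI : Fact (Nat.Prime 2) := ⟨Nat.prime_two⟩
    letI : MulDistribMulAction ↥R ↥O := MulDistribMulAction.compHom _
      ((Subgroup.normalizerMonoidHom O).comp (Subgroup.inclusion hRO))
    have hndvd : ¬ 2 ∣ Nat.card (Sylow p ↥O) := fun h => by
      obtain ⟨P⟩ := (inferInstance : Nonempty (Sylow p ↥O))
      have := h.trans ((Sylow.card_dvd_index P).trans (Subgroup.index_dvd_card _))
      rw [Nat.odd_iff] at hO
      omega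
    obtain ⟨P, hP⟩ := hR.nonempty_fixed_point_of_prime_not_dvd_card (Sylow p ↥O) hndvd
    haveI : Nontrivial ↥(P : Subgroup ↥O) := by
      rw [← Finite.one_lt_card_iff_nontrivial]
      exact lt_of_lt_of_le hpf.out.one_lt (Nat.le_of_dvd Nat.card_pos (P.dvd_card_of_dvd_card hd))
    haveI := P.isPGroup'.center_nontrivial
    obtain ⟨⟨⟨u, huP⟩, huZ⟩, hu1⟩ := exists_ne (1 : ↥(Subgroup.center ↥(P : Subgroup ↥O)))
    have hu1' : (u : SL(2, F)) ≠ 1 := fun e => hu1 (Subtype.ext (Subtype.ext (Subtype.ext e)))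
    have hun : NonScalar ((u : SL(2, F)) : Matrix (Fin 2) (Fin 2) F) := nonScalar_of_ne hu1' (hnm _ u.2)
    obtain ⟨k, hk⟩ := P.isPGroup' ⟨u, huP⟩
    have hk' : (u : SL(2, F)) ^ p ^ k = 1 := by
      simpa using congrArg (fun x : ↥(P : Subgroup ↥O) => ((x : ↥O) : SL(2, F))) hk
    set N := ((u : SL(2, F)) : Matrix (Fin 2) (Fin 2) F) - 1 with hNdef
    have hNN : N * N = 0 := unip_sq_zero hk'
    have hN0 : N ≠ 0 := fun h => hu1' (Subtype.ext (sub_eq_zero.1 h))
    have key : ∀ r ∈ R, ∃ b : F, (r : Matrix (Fin 2) (Fin 2) F) * N = b • (N * (r : Matrix (Fin 2) (Fin 2) F)) := by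
      intro r hr
      have hfix : (⟨r, hr⟩ : ↥R) • P = P := hP ⟨r, hr⟩
      have hmem : (⟨r, hr⟩ : ↥R) • u ∈ (P : Subgroup ↥O) := by
        have hm : (⟨r, hr⟩ : ↥R) • u ∈ ((⟨r, hr⟩ : ↥R) • P : Sylow p ↥O) :=
          Subgroup.smul_mem_pointwise_smul u (⟨r, hr⟩ : ↥R) (P : Subgroup ↥O) huP
        rwa [hfix] at hm
      have hval : (((⟨r, hr⟩ : ↥R) • u : ↥O) : SL(2, F)) = r * u * r⁻¹ := rfl
      have hcm : r * u * r⁻¹ * u = u * (r * u * r⁻¹) := by
        rw [← hval]
        exact (congrArg (fun x : ↥(P : Subgroup ↥O) => ((x : ↥O) : SL(2, F)))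
          (Subgroup.mem_center_iff.1 huZ ⟨_, hmem⟩))
      obtain ⟨a, b, hab⟩ := exists_combo hun
        (congrArg (fun z : SL(2, F) => (z : Matrix (Fin 2) (Fin 2) F)) hcm)
      -- the conjugate is unipotent
      have hu2 : ((r * u * r⁻¹ : SL(2, F)) : Matrix (Fin 2) (Fin 2) F) - 1 = (a + b - 1) • 1 + b • N := by
        rw [hab, hNdef, combo, smul_sub, sub_smul, add_smul, one_smul]
        abel
      have hk2 : (r * u * r⁻¹) ^ p ^ k = 1 := by rw [conj_pow, hk', mul_one, mul_inv_cancel]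
      have hz := unip_sq_zero hk2
      rw [hu2, mul_add, add_mul, add_mul, smul_mul_smul_comm, smul_mul_smul_comm, smul_mul_smul_comm,
        smul_mul_smul_comm, hNN, smul_zero, add_zero, mul_one, one_mul, mul_one] at hz
      have h1 : ((a + b - 1) * (a + b - 1)) • N = 0 := by
        have h := congrArg (· * N) hz
        simpa [add_mul, smul_mul_assoc, hNN] using h
      have hab1 : a + b - 1 = 0 := mul_self_eq_zero.1 ((smul_eq_zero.1 h1).resolve_right hN0)
      rw [hab1, zero_smul, zero_add] at hu2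
      refine ⟨b, ?_⟩
      have hr1 : ((r * u * r⁻¹ : SL(2, F)) : Matrix (Fin 2) (Fin 2) F) * (r : Matrix (Fin 2) (Fin 2) F) =
          (r : Matrix (Fin 2) (Fin 2) F) * ((u : SL(2, F)) : Matrix (Fin 2) (Fin 2) F) :=
        congrArg (fun z : SL(2, F) => (z : Matrix (Fin 2) (Fin 2) F)) (inv_mul_cancel_right (r * (u : SL(2, F))) r)
      rw [← smul_mul_assoc, ← hu2, sub_mul, one_mul, hr1, hNdef, mul_sub, mul_one]
    obtain ⟨a, ha⟩ := key i hi
    obtain ⟨b, hb⟩ := key j hj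
    refine no_anticomm h2 hNN hN0 ?_ ?_ ?_ ha hb
    · exact congrArg (fun z : SL(2, F) => (z : Matrix (Fin 2) (Fin 2) F)) hi2
    · exact congrArg (fun z : SL(2, F) => (z : Matrix (Fin 2) (Fin 2) F)) hij
    · exact congrArg (fun z : SL(2, F) => (z : Matrix (Fin 2) (Fin 2) F)) hj2
  have hreg : ∀ z ∈ O, z ≠ 1 → Reg z := by
    intro z hz hz1
    refine reg_of_dvd_card (nonScalar_of_ne hz1 (hnm z hz)) fun e => ?_
    have hd : orderOf z ∣ 2 * Fintype.card F :=
      (Subgroup.orderOf_dvd_natCard _ (self_mem_cen z)).trans (e ▸ mul_dvd_mul_right (Nat.gcd_dvd_left _ _) _)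
    obtain ⟨n, -, hn⟩ := FiniteField.card F p
    have hd2 : orderOf z ∣ p ^ (n : ℕ) := hn ▸ Nat.Coprime.dvd_of_dvd_mul_left
      (Nat.coprime_two_right.2 (hodd' z hz)) hd
    obtain ⟨m, -, hm⟩ := (Nat.dvd_prime_pow hpf.out).1 hd2
    rcases m.eq_zero_or_pos with rfl | hm0
    · exact hz1 (orderOf_eq_one_iff.1 (by rw [hm, pow_zero]))
    · exact hpO ((dvd_pow_self p hm0.ne').trans (hm ▸ Subgroup.orderOf_dvd_natCard O hz))
  refine ⟨hreg, ?_⟩
  haveI : IsZGroup ↥O := by
    refine ⟨fun r hr P => ?_⟩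
    haveI := Fact.mk hr
    by_cases hPn : Nontrivial ↥(P : Subgroup ↥O)
    · haveI := P.isPGroup'.center_nontrivial
      obtain ⟨⟨⟨z, hzP⟩, hzZ⟩, hz1⟩ := exists_ne (1 : ↥(Subgroup.center ↥(P : Subgroup ↥O)))
      have hz := hreg _ z.2 (fun e => hz1 (Subtype.ext (Subtype.ext (Subtype.ext e))))
      haveI := hz.cyclic
      have hmem : ∀ y : ↥(P : Subgroup ↥O),
          ((y : ↥O) : SL(2, F)) ∈ Subgroup.centralizer ({(z : SL(2, F))} : Set SL(2, F)) := fun y =>
        Subgroup.mem_centralizer_singleton_iff.2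
          (congrArg (fun x : ↥(P : Subgroup ↥O) => ((x : ↥O) : SL(2, F))) (Subgroup.mem_center_iff.1 hzZ y))
      let ψ : ↥(P : Subgroup ↥O) →* ↥(Subgroup.centralizer ({(z : SL(2, F))} : Set SL(2, F))) :=
        (O.subtype.comp (P : Subgroup ↥O).subtype).codRestrict _ hmem
      exact isCyclic_of_injective ψ fun a b h =>
        Subtype.ext (Subtype.ext (congrArg (fun w : ↥(Subgroup.centralizer ({(z : SL(2, F))} : Set SL(2, F))) =>
          (w : SL(2, F))) h))
    · haveI := not_nontrivial_iff_subsingleton.1 hPn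
      infer_instance
  haveI := IsZGroup.isCyclic_commutator (G := ↥O)
  obtain ⟨c, hc⟩ := IsCyclic.exists_generator (α := ↥(commutator ↥O))
  by_cases hc1 : ((c : ↥O) : SL(2, F)) = 1
  · intro x hx y hy
    have hmem : ⁅(⟨x, hx⟩ : ↥O), (⟨y, hy⟩ : ↥O)⁆ ∈ commutator ↥O :=
      Subgroup.commutator_mem_commutator (Subgroup.mem_top _) (Subgroup.mem_top _)
    obtain ⟨k, hk⟩ := hc ⟨_, hmem⟩
    have h1 : ⁅(⟨x, hx⟩ : ↥O), (⟨y, hy⟩ : ↥O)⁆ = 1 := by
      have h := congrArg Subtype.val hk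
      have hc' : (c : ↥O) = 1 := Subtype.ext hc1
      simp only [SubgroupClass.coe_zpow, hc', _root_.one_zpow] at h
      exact h.symm
    exact congrArg Subtype.val (commutatorElement_eq_one_iff_mul_comm.1 h1)
  · have hreg' := hreg _ (c : ↥O).2 hc1
    have hall : ∀ y ∈ O, y ∈ Subgroup.centralizer ({((c : ↥O) : SL(2, F))} : Set SL(2, F)) := by
      intro y hy
      by_contra hyC
      have hmem : (⟨y, hy⟩ : ↥O) * c * (⟨y, hy⟩ : ↥O)⁻¹ ∈ commutator ↥O :=
        (inferInstance : (commutator ↥O).Normal).conj_mem _ c.2 _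
      obtain ⟨k, hk⟩ := hc ⟨_, hmem⟩
      have hk' : y * (c : ↥O) * y⁻¹ = ((c : ↥O) : SL(2, F)) ^ k := by
        simpa using (congrArg (fun x : ↥(commutator ↥O) => ((x : ↥O) : SL(2, F))) hk).symm
      have hN := (hreg'.mem_normalizer_iff h2).2 (hreg'.eq_or_inv h2
        (hk' ▸ Subgroup.zpow_mem _ (self_mem_cen _) k) (trace_eq_of_isConj (isConj_iff.2 ⟨y, rfl⟩)).symm)
      have hsq := hreg'.sq_eq h2 hN hyC
      refine neg_one_not_odd hodd (hsq ▸ Odd.of_dvd_nat (hodd' y hy) ?_)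
      rw [← sq]
      exact orderOf_pow_dvd 2
    exact fun x hx y hy => cent_comm hreg'.1 x (hall x hx) y (hall y hy)

/-- The elements of odd order of a group with Sylow 2-subgroup self-normalising modulo the centre generate a group
of odd order. -/
theorem odd_closure (R : Sylow 2 SL(2, F)) (hsq : ∀ r ∈ (R : Subgroup SL(2, F)), r * r = 1 ∨ r * r = -1)
    (hneg : (-1 : SL(2, F)) ∈ (R : Subgroup SL(2, F))) {J : Subgroup SL(2, F)} (hJ : (R : Subgroup SL(2, F)) ≤ J)
    (hN : ∀ x ∈ J, x ∈ Subgroup.normalizer ((R : Subgroup SL(2, F)) : Set SL(2, F)) → x ∈ (R : Subgroup SL(2, F))) :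
    Odd (Nat.card ↥(Subgroup.closure {x | x ∈ J ∧ Odd (orderOf x)})) := by
  classical
  haveI : Fact (Nat.Prime 2) := ⟨Nat.prime_two⟩
  let Z : Subgroup ↥J := (Subgroup.center SL(2, F)).subgroupOf J
  haveI : Z.Normal := inferInstance
  set f := QuotientGroup.mk' Z with hf
  let R1 : Sylow 2 ↥J := R.subtype hJ
  have hR1 : ∀ x : ↥J, x ∈ (R1 : Subgroup ↥J) ↔ (x : SL(2, F)) ∈ (R : Subgroup SL(2, F)) := fun x => Iff.rfl
  set R2 := R1.mapSurjective (f := f) (QuotientGroup.mk'_surjective Z) with hR2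
  have hR2c : (R2 : Subgroup _) = (R1 : Subgroup ↥J).map f := rfl
  have hZR : Z ≤ (R1 : Subgroup ↥J) := fun z hz => by
    rcases (mem_center_iff_pm (z : SL(2, F))).1 (Subgroup.mem_subgroupOf.1 hz) with e | e
    · exact (hR1 z).2 (e ▸ one_mem _)
    · exact (hR1 z).2 (e ▸ hneg)
  have hsq2 : ∀ a ∈ (R2 : Subgroup (↥J ⧸ Z)), a * a = 1 := by
    intro a ha
    rw [hR2c] at ha
    obtain ⟨r, hr, rfl⟩ := ha
    rw [← map_mul, hf, QuotientGroup.mk'_apply, QuotientGroup.eq_one_iff, Subgroup.mem_subgroupOf,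
      mem_center_iff_pm, Subgroup.coe_mul]
    exact hsq _ hr
  have hcomm : ∀ a ∈ (R2 : Subgroup (↥J ⧸ Z)), ∀ b ∈ (R2 : Subgroup (↥J ⧸ Z)), a * b = b * a := by
    intro a ha b hb
    have h1 := inv_eq_of_mul_eq_one_right (hsq2 a ha)
    have h2' := inv_eq_of_mul_eq_one_right (hsq2 b hb)
    have h3 := inv_eq_of_mul_eq_one_right (hsq2 _ (mul_mem ha hb))
    rw [_root_.mul_inv_rev, h1, h2'] at h3
    exact h3.symm
  have hP : Subgroup.normalizer ((R2 : Subgroup (↥J ⧸ Z)) : Set (↥J ⧸ Z)) ≤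
      Subgroup.centralizer ((R2 : Subgroup (↥J ⧸ Z)) : Set (↥J ⧸ Z)) := by
    intro a ha
    obtain ⟨x, rfl⟩ := QuotientGroup.mk'_surjective Z a
    have hback : ((R1 : Subgroup ↥J).map f).comap f = (R1 : Subgroup ↥J) :=
      Subgroup.comap_map_eq_self (by rw [hf, QuotientGroup.ker_mk']; exact hZR)
    have hxR : (x : SL(2, F)) ∈ (R : Subgroup SL(2, F)) := by
      refine hN x x.2 (Subgroup.mem_normalizer_fintype fun r hr => ?_)
      have h := (Subgroup.mem_normalizer_iff.1 ha (f ⟨r, hJ hr⟩)).1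
        (hR2c ▸ Subgroup.mem_map_of_mem f ((hR1 ⟨r, hJ hr⟩).2 hr))
      rw [← map_inv, ← map_mul, ← map_mul, hR2c] at h
      have h' : x * ⟨r, hJ hr⟩ * x⁻¹ ∈ ((R1 : Subgroup ↥J).map f).comap f := h
      rw [hback] at h'
      exact (hR1 _).1 h'
    exact Subgroup.mem_centralizer_iff.2 fun b hb =>
      hcomm b hb _ (hR2c ▸ Subgroup.mem_map_of_mem f ((hR1 x).2 hxR))
  set K := (MonoidHom.transferSylow R2 hP).ker with hK
  have hKodd : ¬ 2 ∣ Nat.card K := MonoidHom.not_dvd_card_ker_transferSylow R2 hP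
  have hcompl := MonoidHom.ker_transferSylow_isComplement' R2 hP
  set O2 := K.comap f with hO2
  let ZO : Subgroup ↥O2 := Z.subgroupOf O2
  have hZO : Z ≤ O2 := fun z hz => by
    show f z ∈ K
    rw [show f z = 1 from (QuotientGroup.eq_one_iff z).2 hz]
    exact one_mem _
  have hZ2 : Nat.card ZO = 2 := by
    rw [Nat.card_congr (Subgroup.subgroupOfEquivOfLe hZO).toEquiv]
    have hmemJ : (-1 : SL(2, F)) ∈ J := hJ hneg
    have : (Z : Set ↥J) = {1, ⟨-1, hmemJ⟩} := by
      ext z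
      simp only [SetLike.mem_coe, Set.mem_insert_iff, Set.mem_singleton_iff, Z, Subgroup.mem_subgroupOf,
        mem_center_iff_pm, Subtype.ext_iff, Subgroup.coe_one]
    rw [show Nat.card ↥Z = (Z : Set ↥J).ncard from Nat.card_coe_set_eq _, this, Set.ncard_pair]
    exact fun h => neg_one_ne_one' hodd (congrArg Subtype.val h).symm
  have hidx : ZO.index = Nat.card K := by
    have h := Subgroup.index_ker (f.comp O2.subtype)
    rw [MonoidHom.range_comp, Subgroup.range_subtype,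
      Subgroup.map_comap_eq_self_of_surjective (QuotientGroup.mk'_surjective Z)] at h
    rw [← h]
    congr 1
    ext z
    simp [ZO, Subgroup.mem_subgroupOf, hf]
  haveI : ZO.Normal := inferInstance
  obtain ⟨C, hC⟩ := Subgroup.exists_left_complement'_of_coprime (N := ZO)
    (by rw [hZ2, hidx]; exact Nat.coprime_two_left.2 (Nat.odd_iff.2 (by omega)))
  have hCodd : Odd (Nat.card C) := by
    have h := hC.index_eq_card
    have h' := hC.symm.index_eq_card
    rw [Nat.odd_iff]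
    rw [hidx] at h
    omega
  have hcen : ∀ z ∈ ZO, ∀ y : ↥O2, z * y = y * z := by
    intro z hz y
    exact Subtype.ext (Subtype.ext
      (Subgroup.mem_center_iff.1 (Subgroup.mem_subgroupOf.1 (Subgroup.mem_subgroupOf.1 hz)) _).symm)
  have hle : Subgroup.closure {x | x ∈ J ∧ Odd (orderOf x)} ≤ (C.map O2.subtype).map J.subtype := by
    refine (Subgroup.closure_le _).2 ?_
    rintro x ⟨hxJ, hxo⟩
    have hfx : f ⟨x, hxJ⟩ ∈ K := by
      obtain ⟨k, hk, r, hr, hkr⟩ : ∃ k ∈ K, ∃ r ∈ (R2 : Subgroup _), k * r = f ⟨x, hxJ⟩ := by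
        obtain ⟨⟨k, r⟩, e⟩ := hcompl.2 (f ⟨x, hxJ⟩)
        exact ⟨k, k.2, r, r.2, e⟩
      have hr1 : MonoidHom.transferSylow R2 hP r = 1 := by
        have h : MonoidHom.transferSylow R2 hP (f ⟨x, hxJ⟩) = MonoidHom.transferSylow R2 hP r := by
          rw [← hkr, map_mul, (hK ▸ hk : k ∈ (MonoidHom.transferSylow R2 hP).ker), one_mul]
        have h2' : orderOf (MonoidHom.transferSylow R2 hP r) ∣ orderOf x := by
          rw [← h]
          refine (orderOf_map_dvd _ _).trans ((orderOf_map_dvd _ _).trans ?_)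
          rw [Subgroup.orderOf_mk]
        have h3 : orderOf (MonoidHom.transferSylow R2 hP r) ∣ 2 :=
          (orderOf_map_dvd _ _).trans (orderOf_dvd_of_pow_eq_one (by rw [sq]; exact hsq2 r hr))
        exact orderOf_eq_one_iff.1 (Nat.eq_one_of_dvd_coprimes (Nat.coprime_two_right.2 hxo) h2' h3)
      have : f ⟨x, hxJ⟩ = k * r := hkr.symm
      rw [this]
      exact mul_mem hk (MonoidHom.mem_ker.2 hr1)
    obtain ⟨⟨c, z⟩, hcz⟩ := hC.2 ⟨⟨x, hxJ⟩, hfx⟩
    have hcz' : (c : ↥O2) * z = ⟨⟨x, hxJ⟩, hfx⟩ := hcz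
    have hz1 : (z : ↥O2) = 1 := by
      obtain ⟨m, hm⟩ := hxo
      have hz2 : (z : ↥O2) * z = 1 := by
        have h : z ^ Nat.card ZO = 1 := pow_card_eq_one'
        rw [hZ2, sq] at h
        exact congrArg Subtype.val h
      have hpow : ((c : ↥O2) * z) ^ (2 * m + 1) = 1 := by
        rw [hcz', ← hm]
        refine Subtype.ext (Subtype.ext ?_)
        simp [pow_orderOf_eq_one]
      rw [(show Commute (c : ↥O2) z from (hcen z z.2 c).symm).mul_pow, pow_succ (z : ↥O2), pow_mul,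
        sq (z : ↥O2), hz2, one_pow, one_mul] at hpow
      have hzC : (z : ↥O2) ∈ C := by
        rw [← inv_eq_of_mul_eq_one_right hpow]
        exact inv_mem (pow_mem c.2 _)
      exact Subgroup.disjoint_def.1 hC.disjoint hzC z.2
    exact ⟨⟨x, hxJ⟩, ⟨_, c.2, by rw [hz1, mul_one] at hcz'; rw [hcz']; rfl⟩, rfl⟩
  refine Odd.of_dvd_nat ?_ (Subgroup.card_dvd_of_le hle)
  rwa [Subgroup.card_map_of_injective J.subtype_injective, Subgroup.card_map_of_injective O2.subtype_injective]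

theorem pronormal_sl_two_small (hq : Fintype.card F % 8 = 3 ∨ Fintype.card F % 8 = 5) (H : Subgroup SL(2, F))
    (hH : ¬ 2 ∣ H.index) : Cfsg.IsPronormal H := by
  classical
  haveI : Fact (Nat.Prime 2) := ⟨Nat.prime_two⟩
  have h2 := two_ne_zero_of_odd hodd
  obtain ⟨R⟩ := (inferInstance : Nonempty (Sylow 2 SL(2, F)))
  refine of_fixed_sylow R (fun K hK => ?_) hH
  set N := Subgroup.normalizer ((R : Subgroup SL(2, F)) : Set SL(2, F)) with hNdef
  have hN3 : Nat.card N = 3 * Nat.card R := sylow_two_normalizer_small hodd hq R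
  -- the normaliser is minimal over `R`
  have hmin : ∀ M : Subgroup SL(2, F), (R : Subgroup SL(2, F)) ≤ M →
      (∃ x ∈ M, x ∈ N ∧ x ∉ (R : Subgroup SL(2, F))) → N ≤ M := by
    rintro M hM ⟨x, hxM, hxN, hxR⟩
    have hRI : (R : Subgroup SL(2, F)) ≤ M ⊓ N := le_inf hM Subgroup.le_normalizer
    obtain ⟨c, hc⟩ := Subgroup.card_dvd_of_le hRI
    have hcd : Nat.card R * c ∣ 3 * Nat.card R := by
      rw [← hN3, ← hc]; exact Subgroup.card_dvd_of_le inf_le_right
    rw [mul_comm 3] at hcd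
    rcases (Nat.dvd_prime (by norm_num : (3 : ℕ).Prime)).1 (Nat.dvd_of_mul_dvd_mul_left Nat.card_pos hcd) with rfl | rfl
    · exact absurd ((Subgroup.eq_of_le_of_card_ge hRI (by rw [hc, mul_one])).ge
        (Subgroup.mem_inf.2 ⟨hxM, hxN⟩)) hxR
    · refine (Subgroup.eq_of_le_of_card_ge inf_le_right ?_ : M ⊓ N = N).ge.trans inf_le_left
      rw [hN3, hc, mul_comm]
  by_cases hKR : K = (R : Subgroup SL(2, F))
  · exact Cfsg.Lib.Known.SylowTwoMax.pronormal_of_normalizer_le R hK (Or.inl hKR)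
  by_cases hNK : N ≤ K
  · exact Cfsg.Lib.Known.SylowTwoMax.pronormal_of_normalizer_le R hK (Or.inr hNK)
  intro g
  set J := K ⊔ K.map (MulAut.conj g).toMonoidHom with hJdef
  have h1 : (R : Subgroup SL(2, F)) ≤ J := hK.trans le_sup_left
  have h2' : ((g • R : Sylow 2 SL(2, F)) : Subgroup SL(2, F)) ≤ J := by
    intro x hx
    rw [Sylow.coe_subgroup_smul] at hx
    obtain ⟨y, hy, rfl⟩ := hx
    exact Subgroup.mem_sup_right ⟨y, hK hy, rfl⟩
  obtain ⟨jj, hj⟩ := MulAction.exists_smul_eq ↥J (R.subtype h1) ((g • R).subtype h2')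
  rw [Sylow.smul_subtype] at hj
  have hj' : (jj : SL(2, F)) • R = g • R := Sylow.subtype_injective hj
  set k := (jj : SL(2, F))⁻¹ * g with hkdef
  have hkN : k ∈ N := Sylow.smul_eq_iff_mem_normalizer.1 (by rw [mul_smul, ← hj', inv_smul_smul])
  by_cases hkJ : k ∈ J
  · refine ⟨g, ?_, rfl⟩
    rw [show g = (jj : SL(2, F)) * k by rw [hkdef, mul_inv_cancel_left]]
    exact mul_mem jj.2 hkJ
  exfalso
  have hkR : k ∉ (R : Subgroup SL(2, F)) := fun h => hkJ (h1 h)
  have hsub : ∀ x ∈ J, x ∈ N → x ∈ (R : Subgroup SL(2, F)) := fun x hx hxN => by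
    by_contra hxR
    exact hkJ (hmin J h1 ⟨x, hx, hxN, hxR⟩ hkN)
  obtain ⟨a, haR, hareg, hcard, hnorm, -, w, hwR, hwC⟩ := quaternion_data hodd R
  have hwN : w ∈ Subgroup.normalizer ((Subgroup.centralizer ({a} : Set SL(2, F))) : Set SL(2, F)) :=
    (hareg.mem_normalizer_iff h2).2 (hareg.eq_or_inv h2 (hnorm w hwR)
      (trace_eq_of_isConj (isConj_iff.2 ⟨w, rfl⟩)).symm)
  have hw2 : w * w = -1 := hareg.sq_eq h2 hwN hwC
  have hneg : (-1 : SL(2, F)) ∈ (R : Subgroup SL(2, F)) := hw2 ▸ mul_mem hwR hwR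
  have hR8 : Nat.card R = 8 := by
    rw [Sylow.card_eq_multiplicity, Cfsg.Lib.Classical.SLTwoTori.card_SL2, Nat.factorization_def _ Nat.prime_two]
    obtain ⟨m, hm, hm'⟩ : ∃ m, Odd m ∧ Fintype.card F * (Fintype.card F ^ 2 - 1) = 8 * m := by
      obtain ⟨s, hs⟩ : ∃ s, Fintype.card F = 8 * s + 3 ∨ Fintype.card F = 8 * s + 5 :=
        ⟨Fintype.card F / 8, by omega⟩
      rcases hs with e | e <;> rw [e]
      · refine ⟨(8 * s + 3) * (8 * s ^ 2 + 6 * s + 1), ?_, ?_⟩
        · exact Odd.mul ⟨4 * s + 1, by ring⟩ ⟨4 * s ^ 2 + 3 * s, by ring⟩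
        · rw [show (8 * s + 3) ^ 2 = 8 * (8 * s ^ 2 + 6 * s + 1) + 1 by ring, Nat.add_sub_cancel]; ring
      · refine ⟨(8 * s + 5) * (8 * s ^ 2 + 10 * s + 3), ?_, ?_⟩
        · exact Odd.mul ⟨4 * s + 2, by ring⟩ ⟨4 * s ^ 2 + 5 * s + 1, by ring⟩
        · rw [show (8 * s + 5) ^ 2 = 8 * (8 * s ^ 2 + 10 * s + 3) + 1 by ring, Nat.add_sub_cancel]; ring
    rw [hm', padicValNat.mul (by norm_num) (by rintro rfl; simp at hm), show (8 : ℕ) = 2 ^ 3 by norm_num,
      padicValNat.prime_pow, padicValNat.eq_zero_of_not_dvd (by rw [Nat.odd_iff] at hm; omega)]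
  have hsq : ∀ r ∈ (R : Subgroup SL(2, F)), r * r = 1 ∨ r * r = -1 := by
    intro r hr
    refine eq_pm_one_of_sq h2 ?_
    have hdiv : orderOf r ∣ 2 ^ 3 := by
      have := Subgroup.orderOf_dvd_natCard (R : Subgroup SL(2, F)) hr
      rwa [hR8] at this
    obtain ⟨e, he, he'⟩ := (Nat.dvd_prime_pow Nat.prime_two).1 hdiv
    have he2 : e ≤ 2 := by
      by_contra h
      obtain rfl : e = 3 := by omega
      have htop : Subgroup.zpowers r = (R : Subgroup SL(2, F)) :=
        Subgroup.eq_of_le_of_card_ge (Subgroup.zpowers_le.2 hr) (by rw [Nat.card_zpowers, he', hR8]; norm_num)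
      have hcomm : a * w = w * a := by
        have ha' := htop.symm ▸ haR
        have hw' := htop.symm ▸ hwR
        obtain ⟨m1, rfl⟩ := ha'
        obtain ⟨m2, rfl⟩ := hw'
        exact (Commute.zpow_zpow (Commute.refl r) m1 m2).eq
      exact hwC (Subgroup.mem_centralizer_singleton_iff.2 hcomm.symm)
    have h4 : orderOf r ∣ 4 := by rw [he']; exact (pow_dvd_pow 2 he2).trans (by norm_num)
    calc r * r * (r * r) = r ^ 4 := by simp [pow_succ, mul_assoc]
      _ = 1 := orderOf_dvd_iff_pow_eq_one.1 h4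
  have ha2 : a * a = -1 := (hsq a haR).resolve_left fun h => not_nonScalar_pm (eq_pm_one_of_sq h2 h) hareg.1
  have hanti : w * a = -(a * w) := by
    have hinv : a⁻¹ = -a := inv_eq_of_mul_eq_one_right (by rw [mul_neg, ha2, neg_neg])
    have h := hareg.inverts h2 hwN hwC (self_mem_cen a)
    rw [hinv, mul_inv_eq_iff_eq_mul] at h
    rw [h, neg_mul]
  set O := Subgroup.closure {x | x ∈ J ∧ Odd (orderOf x)} with hOdef
  have hO := odd_closure hodd R hsq hneg h1 hsub
  have hRO : (R : Subgroup SL(2, F)) ≤ Subgroup.normalizer (O : Set SL(2, F)) := by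
    intro r hr
    refine Subgroup.mem_normalizer_fintype fun x hx => ?_
    have hle : O ≤ O.comap (MulAut.conj r).toMonoidHom := (Subgroup.closure_le _).2 fun y hy =>
      Subgroup.subset_closure ⟨mul_mem (mul_mem (h1 hr) hy.1) (inv_mem (h1 hr)), by
        rw [MulEquiv.coe_toMonoidHom, (MulAut.conj r).orderOf_eq]; exact hy.2⟩
    exact hle hx
  obtain ⟨hreg, hOcomm⟩ := odd_abelian hodd hO R.isPGroup' hRO hwR haR hw2 ha2 hanti
  -- an element of odd order in `K`
  obtain ⟨h, hh, hh1, hho⟩ : ∃ h ∈ K, h ≠ 1 ∧ Odd (orderOf h) := by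
    by_contra hno
    push Not at hno
    refine hKR (R.is_maximal' (fun x => ?_) hK)
    obtain ⟨e, m, hm, he⟩ : ∃ e m : ℕ, Odd m ∧ orderOf (x : SL(2, F)) = 2 ^ e * m := by
      obtain ⟨e, m, hm, he⟩ := Nat.exists_eq_pow_mul_and_not_dvd (orderOf_pos (x : SL(2, F))).ne' 2 (by norm_num)
      exact ⟨e, m, Nat.odd_iff.2 (by omega), he⟩
    refine ⟨e, Subtype.ext ?_⟩
    by_contra hne
    refine hno ((x : SL(2, F)) ^ 2 ^ e) (pow_mem x.2 _) (by simpa using hne) (Odd.of_dvd_nat hm ?_)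
    refine orderOf_dvd_of_pow_eq_one ?_
    rw [← pow_mul, ← he, pow_orderOf_eq_one]
  have hhO : h ∈ O := Subgroup.subset_closure ⟨Subgroup.mem_sup_left hh, hho⟩
  have hkh : k * h * k⁻¹ ∈ O := by
    refine Subgroup.subset_closure ⟨?_, by rw [← MulAut.conj_apply, (MulAut.conj k).orderOf_eq]; exact hho⟩
    rw [show k * h * k⁻¹ = (jj : SL(2, F))⁻¹ * (g * h * g⁻¹) * jj by rw [hkdef]; group]
    exact mul_mem (mul_mem (inv_mem jj.2) (Subgroup.mem_sup_right ⟨h, hh, rfl⟩)) jj.2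
  have hz := hreg h hhO hh1
  set T := Subgroup.centralizer ({h} : Set SL(2, F))
  have hkT : k ∈ Subgroup.normalizer (T : Set SL(2, F)) :=
    (hz.mem_normalizer_iff h2).2 (hz.eq_or_inv h2
      (Subgroup.mem_centralizer_singleton_iff.2 (hOcomm _ hkh h hhO)) (trace_eq_of_isConj (isConj_iff.2 ⟨k, rfl⟩)).symm)
  have hRT : ∀ r ∈ (R : Subgroup SL(2, F)), r ∈ Subgroup.normalizer (T : Set SL(2, F)) := fun r hr =>
    (hz.mem_normalizer_iff h2).2 (hz.eq_or_inv h2
      (Subgroup.mem_centralizer_singleton_iff.2 (hOcomm _ ((Subgroup.mem_normalizer_iff.1 (hRO hr) h).1 hhO) h hhO))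
      (trace_eq_of_isConj (isConj_iff.2 ⟨r, rfl⟩)).symm)
  obtain ⟨v, hvR, hvT⟩ : ∃ v ∈ (R : Subgroup SL(2, F)), v ∉ T := by
    by_contra hall
    push Not at hall
    exact hwC (Subgroup.mem_centralizer_singleton_iff.2 (cent_comm hz.1 w (hall w hwR) a (hall a haR)))
  have hvN : v ∈ N := Subgroup.le_normalizer hvR
  by_cases hkC : k ∈ T
  · exact hkR (torus_normalizer_two h2 hz hvR hvT (hRT v hvR) hkN hkC)
  · have hvk : v * k ∈ T := by
      have hT : ∀ y ∈ Subgroup.normalizer (T : Set SL(2, F)), y ∉ T → y * h * y⁻¹ = h⁻¹ := fun y hy hyT =>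
        hz.inverts h2 hy hyT (self_mem_cen h)
      refine mem_cen_iff_conj.2 ?_
      calc v * k * h * (v * k)⁻¹ = v * (k * h * k⁻¹) * v⁻¹ := by group
        _ = (v * h * v⁻¹)⁻¹ := by rw [hT k hkT hkC]; group
        _ = h := by rw [hT v (hRT v hvR) hvT, inv_inv]
    refine hkR ((Subgroup.mul_mem_cancel_left _ hvR).1 ?_)
    exact torus_normalizer_two h2 hz hvR hvT (hRT v hvR) (mul_mem hvN hkN) hvk

end Cfsg.Lib.Pronormal
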