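import Mathlib

/-! Odd order elements normalising a wreathed Sylow 2-subgroup of a classical group of 2-power degree are scalar.
The elements outside the base of the wreath product have trace zero. -/

set_option autoImplicit false
set_option linter.unusedSectionVars false
set_option linter.style.haveILetI false

open Matrix

namespace Cfsg.Lib.Pronormal

universe u

variable {F : Type u} [Field F] [Fintype F]

/-- A family of classical groups, closed under orthogonal sums. -/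
structure Fam (F : Type u) [Field F] where
  /-- The member on an index type. -/
  grp : ∀ (n : Type) [Fintype n] [DecidableEq n], Subgroup (GL n F)
  diag : ∀ (n : Type) [Fintype n] [DecidableEq n] (A B : GL n F) (g : GL (n ⊕ n) F),
    (g : Matrix (n ⊕ n) (n ⊕ n) F) = fromBlocks (A : Matrix n n F) 0 0 (B : Matrix n n F) →
      (g ∈ grp (n ⊕ n) ↔ A ∈ grp n ∧ B ∈ grp n)
  anti : ∀ (n : Type) [Fintype n] [DecidableEq n] (g : GL (n ⊕ n) F),
    (g : Matrix (n ⊕ n) (n ⊕ n) F) = fromBlocks 0 1 1 0 → g ∈ grp (n ⊕ n)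

variable {n : Type} [Fintype n] [DecidableEq n]

/-- An element of odd order whose square commutes commutes. -/
theorem commute_of_sq {M : Type*} [Monoid M] {g e : M} (hg : Odd (orderOf g)) (h : Commute (g * g) e) :
    Commute g e := by
  obtain ⟨m, hm⟩ := hg
  have h1 : g = (g * g) ^ (m + 1) := by
    rw [← sq, ← pow_mul, show 2 * (m + 1) = orderOf g + 1 by omega, pow_succ, pow_orderOf_eq_one, one_mul]
  rw [h1]
  exact h.pow_left _

/-- A conjugation mapping a set into itself maps it onto itself. -/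
theorem conj_surj {G : Type*} [Group G] [Finite G] {S : Set G} {g : G} (h : ∀ s ∈ S, g * s * g⁻¹ ∈ S) {s : G}
    (hs : s ∈ S) : g⁻¹ * s * g ∈ S := by
  have hinj : Function.Injective fun x : S => (⟨g * x.1 * g⁻¹, h _ x.2⟩ : S) := fun a b e =>
    Subtype.ext (mul_left_cancel (mul_right_cancel (congrArg Subtype.val e)))
  obtain ⟨⟨x, hx⟩, e⟩ := Finite.injective_iff_surjective.1 hinj ⟨s, hs⟩
  have e' : g * x * g⁻¹ = s := congrArg Subtype.val e
  rw [← e']
  simpa [mul_assoc] using hx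

theorem eq_one_of_odd {G : Type*} [Group G] {S : Subgroup G} (hS : IsPGroup 2 S) {x : G} (hx : x ∈ S)
    (ho : Odd (orderOf x)) : x = 1 := by
  obtain ⟨k, hk⟩ := hS ⟨x, hx⟩
  obtain ⟨j, -, hj⟩ := (Nat.dvd_prime_pow Nat.prime_two).1
    (orderOf_dvd_of_pow_eq_one (show x ^ 2 ^ k = 1 by simpa using congrArg Subtype.val hk))
  rcases j.eq_zero_or_pos with rfl | hj0
  · simpa using hj
  · exfalso
    rw [hj, Nat.odd_iff, Nat.pow_mod, Nat.mod_self, zero_pow hj0.ne'] at ho
    omega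

/-- The block diagonal embedding. -/
noncomputable def dia : GL n F × GL n F →* GL (n ⊕ n) F :=
  MonoidHom.toHomUnits
    { toFun := fun p => fromBlocks (p.1 : Matrix n n F) 0 0 (p.2 : Matrix n n F)
      map_one' := by simp
      map_mul' := fun p q => by simp [fromBlocks_multiply] }

@[simp] theorem dia_val (A B : GL n F) :
    ((dia (A, B) : GL (n ⊕ n) F) : Matrix (n ⊕ n) (n ⊕ n) F) = fromBlocks (A : Matrix n n F) 0 0 (B : Matrix n n F) :=
  rfl

variable (n F) in
/-- The exchange of the two blocks. -/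
noncomputable def sw : GL (n ⊕ n) F :=
  ⟨fromBlocks 0 1 1 0, fromBlocks 0 1 1 0, by simp [fromBlocks_multiply], by simp [fromBlocks_multiply]⟩

@[simp] theorem sw_val : ((sw F n : GL (n ⊕ n) F) : Matrix (n ⊕ n) (n ⊕ n) F) = fromBlocks 0 1 1 0 := rfl

theorem sw_sq : sw F n * sw F n = 1 := Units.ext (by simp [fromBlocks_multiply])

theorem sw_dia (A B : GL n F) : sw F n * dia (A, B) = dia (B, A) * sw F n :=
  Units.ext (by simp [fromBlocks_multiply])

theorem dia_injective : Function.Injective (dia : GL n F × GL n F → GL (n ⊕ n) F) := by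
  rintro ⟨A, B⟩ ⟨A', B'⟩ h
  have h' := congrArg (fun g : GL (n ⊕ n) F => (g : Matrix (n ⊕ n) (n ⊕ n) F)) h
  simp only [dia_val, fromBlocks_inj] at h'
  exact Prod.ext (Units.ext h'.1) (Units.ext h'.2.2.2)

theorem trace_fromBlocks' (A B C D : Matrix n n F) : (fromBlocks A B C D).trace = A.trace + D.trace := by
  simp [Matrix.trace, Fintype.sum_sum_type]

theorem trace_dia (A B : GL n F) :
    ((dia (A, B) : GL (n ⊕ n) F) : Matrix (n ⊕ n) (n ⊕ n) F).trace =
      (A : Matrix n n F).trace + (B : Matrix n n F).trace := trace_fromBlocks' _ _ _ _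

theorem trace_anti (A B : GL n F) :
    ((sw F n * dia (A, B) : GL (n ⊕ n) F) : Matrix (n ⊕ n) (n ⊕ n) F).trace = 0 := by
  simp [fromBlocks_multiply, trace_fromBlocks']

theorem det_dia (A B : GL n F) : GeneralLinearGroup.det (dia (A, B)) =
    GeneralLinearGroup.det A * GeneralLinearGroup.det B :=
  Units.ext (by simp [det_fromBlocks_zero₂₁])

/-- The base of the wreath product. -/
noncomputable def base (W : Subgroup (GL n F)) : Subgroup (GL (n ⊕ n) F) := (W.prod W).map dia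

theorem mem_base {W : Subgroup (GL n F)} {g : GL (n ⊕ n) F} :
    g ∈ base W ↔ ∃ A ∈ W, ∃ B ∈ W, g = dia (A, B) := by
  constructor
  · rintro ⟨⟨A, B⟩, ⟨hA, hB⟩, rfl⟩; exact ⟨A, hA, B, hB, rfl⟩
  · rintro ⟨A, hA, B, hB, rfl⟩; exact ⟨(A, B), ⟨hA, hB⟩, rfl⟩

/-- The wreath product with the group of two elements. -/
noncomputable def wr (W : Subgroup (GL n F)) : Subgroup (GL (n ⊕ n) F) where
  carrier := {g | g ∈ base W ∨ sw F n * g ∈ base W}
  one_mem' := Or.inl (one_mem _)
  mul_mem' := by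
    have hsw : ∀ g ∈ base W, sw F n * g * sw F n ∈ base W := by
      intro g hg
      obtain ⟨A, hA, B, hB, rfl⟩ := mem_base.1 hg
      rw [sw_dia, mul_assoc, sw_sq, mul_one]
      exact mem_base.2 ⟨B, hB, A, hA, rfl⟩
    intro a b ha hb
    rcases ha with ha | ha <;> rcases hb with hb | hb
    · exact Or.inl (mul_mem ha hb)
    · right
      have := mul_mem (hsw a ha) hb
      simpa [mul_assoc, ← mul_assoc (sw F n) (sw F n), sw_sq] using this
    · exact Or.inr (by rw [← mul_assoc]; exact mul_mem ha hb)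
    · left
      have := mul_mem (hsw _ ha) hb
      have e : sw F n * (sw F n * a) * sw F n * (sw F n * b) = a * b := by
        simp [mul_assoc, ← mul_assoc (sw F n) (sw F n), sw_sq]
      rwa [e] at this
  inv_mem' := by
    intro a ha
    rcases ha with ha | ha
    · exact Or.inl (inv_mem ha)
    · right
      obtain ⟨A, hA, B, hB, e⟩ := mem_base.1 (inv_mem ha)
      have h1 : a⁻¹ = dia (A, B) * sw F n := by rw [← e]; simp [mul_assoc, sw_sq]
      rw [h1, ← mul_assoc, sw_dia, mul_assoc, sw_sq, mul_one]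
      exact mem_base.2 ⟨B, hB, A, hA, rfl⟩

theorem mem_wr {W : Subgroup (GL n F)} {g : GL (n ⊕ n) F} :
    g ∈ wr W ↔ g ∈ base W ∨ sw F n * g ∈ base W := Iff.rfl

theorem sw_mem_wr (W : Subgroup (GL n F)) : sw F n ∈ wr W :=
  Or.inr (by rw [sw_sq]; exact one_mem _)

theorem base_le_wr (W : Subgroup (GL n F)) : base W ≤ wr W := fun _ h => Or.inl h

theorem trace_wr {W : Subgroup (GL n F)} {g : GL (n ⊕ n) F} (hg : g ∈ wr W)
    (ht : (g : Matrix (n ⊕ n) (n ⊕ n) F).trace ≠ 0) : g ∈ base W := by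
  rcases hg with h | h
  · exact h
  · exfalso
    obtain ⟨A, -, B, -, e⟩ := mem_base.1 h
    refine ht ?_
    rw [show g = sw F n * dia (A, B) by rw [← e, ← mul_assoc, sw_sq, one_mul]]
    exact trace_anti A B

theorem card_wr [Nonempty n] (W : Subgroup (GL n F)) : Nat.card (wr W) = 2 * Nat.card W ^ 2 := by
  classical
  have hdis : ∀ A B A' B' : GL n F, dia (A, B) ≠ sw F n * dia (A', B') := fun A B A' B' h => by
    have h' := congrArg (fun g : GL (n ⊕ n) F => (g : Matrix (n ⊕ n) (n ⊕ n) F)) h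
    simp only [dia_val, Units.val_mul, sw_val, fromBlocks_multiply, Matrix.zero_mul, Matrix.one_mul, add_zero,
      zero_add, fromBlocks_inj] at h'
    exact A.isUnit.ne_zero h'.1
  let f : Bool × W × W → wr W := fun p =>
    match p with
    | (true, A, B) => ⟨dia (A.1, B.1), Or.inl (mem_base.2 ⟨_, A.2, _, B.2, rfl⟩)⟩
    | (false, A, B) => ⟨sw F n * dia (A.1, B.1), Or.inr (by
        rw [← mul_assoc, sw_sq, one_mul]; exact mem_base.2 ⟨_, A.2, _, B.2, rfl⟩)⟩
  have hf : Function.Bijective f := by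
    refine ⟨?_, ?_⟩
    · rintro ⟨b, A, B⟩ ⟨b', A', B'⟩ h
      have h' := congrArg Subtype.val h
      cases b <;> cases b' <;> simp only [f] at h'
      · obtain ⟨h1, h2⟩ := Prod.ext_iff.1 (dia_injective (mul_left_cancel h'))
        rw [Subtype.ext h1, Subtype.ext h2]
      · exact absurd h'.symm (hdis _ _ _ _)
      · exact absurd h' (hdis _ _ _ _)
      · obtain ⟨h1, h2⟩ := Prod.ext_iff.1 (dia_injective h')
        rw [Subtype.ext h1, Subtype.ext h2]
    · rintro ⟨g, hg⟩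
      rcases hg with h | h
      · obtain ⟨A, hA, B, hB, rfl⟩ := mem_base.1 h
        exact ⟨(true, ⟨A, hA⟩, ⟨B, hB⟩), rfl⟩
      · obtain ⟨A, hA, B, hB, e⟩ := mem_base.1 h
        exact ⟨(false, ⟨A, hA⟩, ⟨B, hB⟩), Subtype.ext (by
          show sw F n * dia (A, B) = g
          rw [← e, ← mul_assoc, sw_sq, one_mul])⟩
  rw [← Nat.card_congr (Equiv.ofBijective f hf), Nat.card_prod, Nat.card_prod,
    Nat.card_eq_fintype_card (α := Bool), Fintype.card_bool, sq]

/-- What is needed from the Sylow 2-subgroup of one block. -/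
structure Block (Γ : Fam F) (W : Subgroup (GL n F)) : Prop where
  le : W ≤ Γ.grp n
  two : IsPGroup 2 W
  card : Nat.card W = 2 ^ padicValNat 2 (Nat.card (Γ.grp n))
  neg : (-1 : GL n F) ∈ W
  scalar_comm : ∀ M : Matrix n n F, (∀ w ∈ W, M * (w : Matrix n n F) = (w : Matrix n n F) * M) → ∃ c : F, M = c • 1
  norm : ∀ g ∈ Γ.grp n, Odd (orderOf g) → (∀ w ∈ W, g * w * g⁻¹ ∈ W) → ∃ c : F, (g : Matrix n n F) = c • 1

/-- The properties propagating along the induction. -/
structure Good (Γ : Fam F) (W : Subgroup (GL n F)) : Prop extends Block Γ W where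
  zero_gen : W ≤ Subgroup.closure {w | w ∈ W ∧ (w : Matrix n n F).trace = 0}
  zero_gen_one : ∀ w ∈ W, GeneralLinearGroup.det w = 1 →
    w ∈ Subgroup.closure {v | v ∈ W ∧ GeneralLinearGroup.det v = 1 ∧ (v : Matrix n n F).trace = 0}
  det_zero : ∀ w ∈ W, ∃ v ∈ W, GeneralLinearGroup.det v = GeneralLinearGroup.det w ∧ (v : Matrix n n F).trace = 0
  det_ne : ∀ w ∈ W, ∃ v ∈ W, GeneralLinearGroup.det v = GeneralLinearGroup.det w ∧ (v : Matrix n n F).trace ≠ 0

variable {Γ : Fam F} {W : Subgroup (GL n F)}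

/-- A matrix commuting with `diag (1, -1)` is block diagonal. -/
theorem offdiag_zero (h2 : (2 : F) ≠ 0) (M : Matrix (n ⊕ n) (n ⊕ n) F)
    (h : M * fromBlocks 1 0 0 (-1) = fromBlocks 1 0 0 (-1) * M) :
    M = fromBlocks M.toBlocks₁₁ 0 0 M.toBlocks₂₂ := by
  rw [← fromBlocks_toBlocks M, fromBlocks_multiply, fromBlocks_multiply] at h
  simp only [Matrix.mul_one, Matrix.one_mul, Matrix.mul_zero, Matrix.zero_mul, add_zero, zero_add, Matrix.mul_neg,
    Matrix.neg_mul, fromBlocks_inj] at h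
  obtain ⟨-, h12, h21, -⟩ := h
  have e12 : M.toBlocks₁₂ = 0 := by
    ext i j
    have := congrFun (congrFun h12 i) j
    simp only [Matrix.neg_apply] at this
    have h3 : (2 : F) * M.toBlocks₁₂ i j = 0 := by linear_combination -this
    exact (mul_eq_zero.1 h3).resolve_left h2
  have e21 : M.toBlocks₂₁ = 0 := by
    ext i j
    have := congrFun (congrFun h21 i) j
    simp only [Matrix.neg_apply] at this
    have h3 : (2 : F) * M.toBlocks₂₁ i j = 0 := by linear_combination this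
    exact (mul_eq_zero.1 h3).resolve_left h2
  conv_lhs => rw [← fromBlocks_toBlocks M, e12, e21]

/-- The common core of the induction. -/
theorem core (hB : Block Γ W) (h2 : (2 : F) ≠ 0) [Nonempty n] (S : Subgroup (GL (n ⊕ n) F)) (hS : S ≤ wr W)
    (hS2 : IsPGroup 2 S)
    (hT : ∀ s ∈ S, s ∈ base W → s ∈ Subgroup.closure {t | t ∈ S ∧ (t : Matrix (n ⊕ n) (n ⊕ n) F).trace ≠ 0})
    (he : dia (1, (-1 : GL n F)) ∈ S) (hsw : sw F n ∈ S) (hproj : ∀ A ∈ W, ∃ B ∈ W, dia (A, B) ∈ S)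
    (g : GL (n ⊕ n) F) (hg : g ∈ Γ.grp (n ⊕ n)) (hodd : Odd (orderOf g)) (hnorm : ∀ s ∈ S, g * s * g⁻¹ ∈ S) :
    ∃ c : F, (g : Matrix (n ⊕ n) (n ⊕ n) F) = c • 1 := by
  set e : GL (n ⊕ n) F := dia (1, (-1 : GL n F)) with hedef
  have hproj' : ∀ A ∈ W, ∃ B ∈ W, dia (B, A) ∈ S := fun A hA => by
    obtain ⟨B, hB', h⟩ := hproj A hA
    refine ⟨B, hB', ?_⟩
    have := mul_mem (mul_mem hsw h) hsw
    rwa [sw_dia, mul_assoc, sw_sq, mul_one] at this
  have htr : ∀ h x : GL (n ⊕ n) F, ((h * x * h⁻¹ : GL (n ⊕ n) F) : Matrix (n ⊕ n) (n ⊕ n) F).trace =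
      (x : Matrix (n ⊕ n) (n ⊕ n) F).trace := fun h x => by
    rw [Units.val_mul, Units.val_mul, Matrix.trace_units_conj]
  have hcl : ∀ h : GL (n ⊕ n) F, (∀ s ∈ S, h * s * h⁻¹ ∈ S) → ∀ s ∈ S, s ∈ base W → h * s * h⁻¹ ∈ base W := by
    intro h hh s hs hsb
    have hle : Subgroup.closure {t | t ∈ S ∧ (t : Matrix (n ⊕ n) (n ⊕ n) F).trace ≠ 0} ≤
        (base W).comap (MulAut.conj h).toMonoidHom := (Subgroup.closure_le _).2 fun t ht => by
      show h * t * h⁻¹ ∈ base W
      exact trace_wr (hS (hh t ht.1)) (by rw [htr]; exact ht.2)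
    exact hle (hT s hs hsb)
  have hinv : ∀ s ∈ S, g⁻¹ * s * g ∈ S := fun s hs => conj_surj (S := {x | x ∈ S}) hnorm hs
  have heb : e ∈ base W := mem_base.2 ⟨1, one_mem W, -1, hB.neg, rfl⟩
  obtain ⟨a, -, b, -, hf⟩ := mem_base.1 (hcl g hnorm e he heb)
  have hfcomm : ∀ s ∈ S, s ∈ base W → Commute (g * e * g⁻¹) s := by
    intro s hs hsb
    have h1 : g⁻¹ * s * g ∈ base W := by
      simpa using hcl g⁻¹ (fun t ht => by simpa using hinv t ht) s hs hsb
    obtain ⟨A, -, B, -, hAB⟩ := mem_base.1 h1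
    have h2' : Commute e (g⁻¹ * s * g) := by
      rw [hAB, hedef]
      exact Units.ext (by simp [fromBlocks_multiply])
    have h3 := h2'.map (MulAut.conj g)
    simp only [MulAut.conj_apply] at h3
    rwa [show g * (g⁻¹ * s * g) * g⁻¹ = s by group] at h3
  rw [hf] at hfcomm
  have hab : ∀ x : GL n F, (x = a ∨ x = b) → ∀ A ∈ W, (x : Matrix n n F) * A = A * x := by
    rintro x (rfl | rfl) A hA
    · obtain ⟨B, hB', h⟩ := hproj A hA
      have h1 := congrArg Units.val (hfcomm _ h (mem_base.2 ⟨A, hA, B, hB', rfl⟩)).eq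
      simp [fromBlocks_multiply] at h1
      exact h1.1
    · obtain ⟨B, hB', h⟩ := hproj' A hA
      have h1 := congrArg Units.val (hfcomm _ h (mem_base.2 ⟨B, hB', A, hA, rfl⟩)).eq
      simp [fromBlocks_multiply] at h1
      exact h1.2
  obtain ⟨α, hα⟩ := hB.scalar_comm _ (hab a (Or.inl rfl))
  obtain ⟨β, hβ⟩ := hB.scalar_comm _ (hab b (Or.inr rfl))
  have hge : (g : Matrix (n ⊕ n) (n ⊕ n) F) * fromBlocks 1 0 0 (-1) =
      fromBlocks (α • 1) 0 0 (β • 1) * (g : Matrix (n ⊕ n) (n ⊕ n) F) := by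
    have h1 : g * e = dia (a, b) * g := by rw [← hf, inv_mul_cancel_right]
    have h1' := congrArg Units.val h1
    simpa [hedef, hα, hβ] using h1'
  have hsq : α * α = 1 ∧ β * β = 1 := by
    have h1 : dia (a, b) * dia (a, b) = 1 := by
      rw [← hf, show g * e * g⁻¹ * (g * e * g⁻¹) = g * (e * e) * g⁻¹ by group,
        show e * e = 1 from Units.ext (by simp [hedef, fromBlocks_multiply]), mul_one, mul_inv_cancel]
    have h1' := congrArg Units.val h1
    simp [fromBlocks_multiply, hα, hβ, smul_smul, ← fromBlocks_one] at h1'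
    obtain ⟨i⟩ := (inferInstance : Nonempty n)
    exact ⟨by simpa using congrFun (congrFun h1'.1 i) i, by simpa using congrFun (congrFun h1'.2 i) i⟩
  have hcomm : Commute g e := by
    refine commute_of_sq hodd ?_
    rcases mul_self_eq_one_iff.1 hsq.1 with ha | ha <;> rcases mul_self_eq_one_iff.1 hsq.2 with hb | hb
    · exfalso
      rw [ha, hb, one_smul, fromBlocks_one, one_mul] at hge
      have := g.isUnit.mul_left_cancel (hge.trans (mul_one _).symm)
      rw [← fromBlocks_one, fromBlocks_inj] at this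
      obtain ⟨i⟩ := (inferInstance : Nonempty n)
      have h4 := congrFun (congrFun this.2.2.2 i) i
      simp at h4
      exact h2 (by linear_combination -h4)
    · have h1 : Commute g e := by
        refine Units.ext ?_
        show (g : Matrix (n ⊕ n) (n ⊕ n) F) * _ = _ * (g : Matrix (n ⊕ n) (n ⊕ n) F)
        simpa [hedef, ha, hb] using hge
      exact h1.mul_left h1
    · have h1 : g * e = (-e) * g := by
        refine Units.ext ?_
        simpa [hedef, ha, hb, fromBlocks_neg, ← Matrix.neg_mul] using hge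
      show g * g * e = e * (g * g)
      rw [mul_assoc, h1, ← mul_assoc, show g * -e = -(g * e) by simp, h1]
      simp [mul_assoc]
    · exfalso
      rw [ha, hb, show fromBlocks ((-1 : F) • (1 : Matrix n n F)) 0 0 ((-1 : F) • 1) =
        (-1 : Matrix (n ⊕ n) (n ⊕ n) F) by simp [← fromBlocks_one, fromBlocks_neg]] at hge
      have := g.isUnit.mul_left_cancel (hge.trans (by simp : _ = (g : Matrix (n ⊕ n) (n ⊕ n) F) * -1))
      rw [← fromBlocks_one, fromBlocks_neg, fromBlocks_inj] at this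
      obtain ⟨i⟩ := (inferInstance : Nonempty n)
      have h4 := congrFun (congrFun this.1 i) i
      simp at h4
      exact h2 (by linear_combination h4)
  have hblk := offdiag_zero h2 (g : Matrix (n ⊕ n) (n ⊕ n) F) (by
    have := congrArg Units.val hcomm.eq
    simpa [hedef] using this)
  have hd : (g : Matrix (n ⊕ n) (n ⊕ n) F).det ≠ 0 := ((Matrix.isUnit_iff_isUnit_det _).1 g.isUnit).ne_zero
  rw [hblk, det_fromBlocks_zero₂₁] at hd
  set A := GeneralLinearGroup.mkOfDetNeZero _ (left_ne_zero_of_mul hd) with hA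
  set B := GeneralLinearGroup.mkOfDetNeZero _ (right_ne_zero_of_mul hd) with hB'
  have hgd : g = dia (A, B) := Units.ext hblk
  obtain ⟨hAΓ, hBΓ⟩ := (Γ.diag n A B g hblk).1 hg
  have hAo : Odd (orderOf A) ∧ Odd (orderOf B) := by
    have h1 : orderOf g = orderOf (A, B) := by rw [hgd, orderOf_injective dia dia_injective]
    rw [h1, Prod.orderOf] at hodd
    exact ⟨Odd.of_dvd_nat hodd (Nat.dvd_lcm_left _ _), Odd.of_dvd_nat hodd (Nat.dvd_lcm_right _ _)⟩
  have hnW : ∀ w ∈ W, A * w * A⁻¹ ∈ W ∧ B * w * B⁻¹ ∈ W := by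
    intro w hw
    constructor
    · obtain ⟨v, hv, h⟩ := hproj w hw
      have h1 := hcl g hnorm _ h (mem_base.2 ⟨w, hw, v, hv, rfl⟩)
      rw [hgd, ← map_inv, ← map_mul, ← map_mul] at h1
      obtain ⟨P, hP, Q, -, e'⟩ := mem_base.1 h1
      have e'' := congrArg Prod.fst (dia_injective e')
      simp only [Prod.fst_mul, Prod.fst_inv] at e''
      exact e''.symm ▸ hP
    · obtain ⟨v, hv, h⟩ := hproj' w hw
      have h1 := hcl g hnorm _ h (mem_base.2 ⟨v, hv, w, hw, rfl⟩)
      rw [hgd, ← map_inv, ← map_mul, ← map_mul] at h1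
      obtain ⟨P, -, Q, hQ, e'⟩ := mem_base.1 h1
      have e'' := congrArg Prod.snd (dia_injective e')
      simp only [Prod.snd_mul, Prod.snd_inv] at e''
      exact e''.symm ▸ hQ
  obtain ⟨c, hc⟩ := hB.norm A hAΓ hAo.1 fun w hw => (hnW w hw).1
  obtain ⟨d, hd'⟩ := hB.norm B hBΓ hAo.2 fun w hw => (hnW w hw).2
  have hAB : Commute A B := Units.ext (by simp [hc, hd', smul_smul, mul_comm c d])
  have hmem : g * sw F n * g⁻¹ * sw F n ∈ S := mul_mem (hnorm _ hsw) hsw
  have heq : g * sw F n * g⁻¹ * sw F n = dia (A * B⁻¹, B * A⁻¹) := by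
    rw [hgd, ← map_inv, mul_assoc _ (dia (A, B)⁻¹) (sw F n), show (A, B)⁻¹ = (A⁻¹, B⁻¹) from rfl,
      show dia (A⁻¹, B⁻¹) * sw F n = sw F n * dia (B⁻¹, A⁻¹) from (sw_dia _ _).symm, mul_assoc,
      ← mul_assoc (sw F n) (sw F n), sw_sq, one_mul, ← map_mul]
    rfl
  rw [heq] at hmem
  have h1 : dia (A * B⁻¹, B * A⁻¹) = 1 := by
    refine eq_one_of_odd hS2 hmem ?_
    rw [orderOf_injective dia dia_injective, Prod.orderOf]
    refine Odd.of_dvd_nat ((hAo.1.mul hAo.2)) (Nat.lcm_dvd ?_ ?_)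
    · exact hAB.inv_right.orderOf_mul_dvd_lcm.trans (by rw [orderOf_inv]; exact Nat.lcm_dvd_mul _ _)
    · exact hAB.symm.inv_right.orderOf_mul_dvd_lcm.trans (by
        rw [orderOf_inv, mul_comm (orderOf A)]; exact Nat.lcm_dvd_mul _ _)
  have hcd : A = B := by
    have := congrArg Prod.fst (dia_injective (h1.trans (map_one dia).symm))
    exact mul_inv_eq_one.1 this
  refine ⟨c, ?_⟩
  rw [hgd, dia_val, ← hcd, hc, ← fromBlocks_one, fromBlocks_smul, smul_zero]

theorem det_sw_mem (W : Subgroup (GL n F)) (hneg : (-1 : GL n F) ∈ W) :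
    ∃ c ∈ W, GeneralLinearGroup.det (sw F n) * GeneralLinearGroup.det c = 1 := by
  refine ⟨-1, hneg, Units.ext ?_⟩
  have h1 : fromBlocks (0 : Matrix n n F) (1 : Matrix n n F) (1 : Matrix n n F) (0 : Matrix n n F) *
      fromBlocks (1 : Matrix n n F) (0 : Matrix n n F) (1 : Matrix n n F) (1 : Matrix n n F) =
      fromBlocks (1 : Matrix n n F) (1 : Matrix n n F) (1 : Matrix n n F) (0 : Matrix n n F) := by
    simp [fromBlocks_multiply]
  have h2 := congrArg Matrix.det h1
  rw [det_mul, det_fromBlocks_zero₁₂, det_fromBlocks_one₁₁] at h2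
  simp at h2
  simp [Matrix.det_neg, h2, ← mul_pow]

/-- One step of the induction. -/
theorem good_wr (hB : Block Γ W) (h2 : (2 : F) ≠ 0) [Nonempty n]
    (hcard : padicValNat 2 (Nat.card (Γ.grp (n ⊕ n))) = 2 * padicValNat 2 (Nat.card (Γ.grp n)) + 1)
    (hne : ∀ A ∈ W, ∃ x ∈ W, ∃ y ∈ W, GeneralLinearGroup.det x * GeneralLinearGroup.det y = GeneralLinearGroup.det A ∧
      (x : Matrix n n F).trace + (y : Matrix n n F).trace ≠ 0)
    (hgen : W ≤ Subgroup.closure {w | w ∈ W ∧ (w : Matrix n n F).trace + Fintype.card n ≠ 0}) :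
    Good Γ (wr W) := by
  classical
  obtain ⟨c, hc, hdc⟩ := det_sw_mem W hB.neg
  have hbase : ∀ g ∈ base W, g ∈ Γ.grp (n ⊕ n) := fun g hg => by
    obtain ⟨A, hA, B, hB', rfl⟩ := mem_base.1 hg
    exact (Γ.diag n A B _ (dia_val A B)).2 ⟨hB.le hA, hB.le hB'⟩
  have hle : wr W ≤ Γ.grp (n ⊕ n) := fun g hg => by
    rcases hg with h | h
    · exact hbase g h
    · have := mul_mem (Γ.anti n (sw F n) sw_val) (hbase _ h)
      rwa [← mul_assoc, sw_sq, one_mul] at this
  have hc2 : Nat.card (wr W) = 2 ^ (2 * padicValNat 2 (Nat.card (Γ.grp n)) + 1) := by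
    rw [card_wr, hB.card, ← pow_mul, pow_succ, mul_comm 2 (2 ^ _), mul_comm (padicValNat 2 _)]
  have hneg : (-1 : GL (n ⊕ n) F) ∈ wr W := by
    refine Or.inl (mem_base.2 ⟨-1, hB.neg, -1, hB.neg, Units.ext ?_⟩)
    simp [← fromBlocks_one, fromBlocks_neg]
  set j := sw F n * dia (c, 1) with hj
  have hjW : j ∈ wr W := mul_mem (sw_mem_wr W) (base_le_wr W (mem_base.2 ⟨c, hc, 1, one_mem W, rfl⟩))
  have hjdet : GeneralLinearGroup.det j = 1 := by rw [hj, map_mul, det_dia, map_one, mul_one, hdc]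
  have hcases : ∀ g ∈ wr W, ((g : Matrix (n ⊕ n) (n ⊕ n) F).trace = 0) ∨
      ((j * g : GL (n ⊕ n) F) : Matrix (n ⊕ n) (n ⊕ n) F).trace = 0 := by
    intro g hg
    by_cases h : (g : Matrix (n ⊕ n) (n ⊕ n) F).trace = 0
    · exact Or.inl h
    obtain ⟨A, hA, B, hB', rfl⟩ := mem_base.1 (trace_wr hg h)
    right
    rw [hj, mul_assoc, ← map_mul]
    exact trace_anti _ _
  have hjtr : (j : Matrix (n ⊕ n) (n ⊕ n) F).trace = 0 := trace_anti _ _
  refine ⟨⟨hle, IsPGroup.of_card hc2, by rw [hc2, hcard], hneg, ?_, ?_⟩, ?_, ?_, ?_, ?_⟩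
  · intro M hM
    have he : (dia (1, (-1 : GL n F)) : GL (n ⊕ n) F) ∈ wr W :=
      base_le_wr W (mem_base.2 ⟨1, one_mem W, -1, hB.neg, rfl⟩)
    have hblk := offdiag_zero h2 M (by simpa using hM _ he)
    have hA : ∀ A ∈ W, M.toBlocks₁₁ * (A : Matrix n n F) = (A : Matrix n n F) * M.toBlocks₁₁ ∧
        M.toBlocks₂₂ * (A : Matrix n n F) = (A : Matrix n n F) * M.toBlocks₂₂ := fun A hA => by
      have h1 := hM _ (base_le_wr W (mem_base.2 ⟨A, hA, A, hA, rfl⟩))
      rw [hblk] at h1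
      simp [fromBlocks_multiply] at h1
      exact h1
    obtain ⟨α, hα⟩ := hB.scalar_comm _ fun A hA' => (hA A hA').1
    obtain ⟨β, hβ⟩ := hB.scalar_comm _ fun A hA' => (hA A hA').2
    have h1 := hM _ (sw_mem_wr W)
    rw [hblk, hα, hβ] at h1
    simp [fromBlocks_multiply] at h1
    obtain ⟨i⟩ := (inferInstance : Nonempty n)
    have h4 : α = β := h1.1
    refine ⟨α, ?_⟩
    rw [hblk, hα, hβ, ← h4, ← fromBlocks_one, fromBlocks_smul, smul_zero]
  · intro g hg hodd hn
    refine core hB h2 (wr W) le_rfl (IsPGroup.of_card hc2) ?_ (base_le_wr W (mem_base.2 ⟨1, one_mem W, -1, hB.neg, rfl⟩))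
      (sw_mem_wr W) (fun A hA => ⟨1, one_mem W, base_le_wr W (mem_base.2 ⟨A, hA, 1, one_mem W, rfl⟩)⟩) g hg hodd hn
    intro s _ hs
    obtain ⟨A, hA, B, hB', rfl⟩ := mem_base.1 hs
    let T := Subgroup.closure {t | t ∈ wr W ∧ (t : Matrix (n ⊕ n) (n ⊕ n) F).trace ≠ 0}
    have hl : W ≤ T.comap (dia.comp (MonoidHom.inl (GL n F) (GL n F))) := hgen.trans ((Subgroup.closure_le _).2
      fun w hw => Subgroup.subset_closure ⟨base_le_wr W (mem_base.2 ⟨w, hw.1, 1, one_mem W, rfl⟩), by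
        simpa [trace_fromBlocks'] using hw.2⟩)
    have hr : W ≤ T.comap (dia.comp (MonoidHom.inr (GL n F) (GL n F))) := hgen.trans ((Subgroup.closure_le _).2
      fun w hw => Subgroup.subset_closure ⟨base_le_wr W (mem_base.2 ⟨1, one_mem W, w, hw.1, rfl⟩), by
        simpa [trace_fromBlocks', add_comm] using hw.2⟩)
    have ha : dia (A, 1) ∈ T := hl hA
    have hb : dia (1, B) ∈ T := hr hB'
    simpa [← map_mul] using mul_mem ha hb
  · intro g hg
    rcases hcases g hg with h | h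
    · exact Subgroup.subset_closure ⟨hg, h⟩
    · rw [show g = j⁻¹ * (j * g) by group]
      exact mul_mem (inv_mem (Subgroup.subset_closure ⟨hjW, hjtr⟩)) (Subgroup.subset_closure ⟨mul_mem hjW hg, h⟩)
  · intro g hg hd
    rcases hcases g hg with h | h
    · exact Subgroup.subset_closure ⟨hg, hd, h⟩
    · rw [show g = j⁻¹ * (j * g) by group]
      exact mul_mem (inv_mem (Subgroup.subset_closure ⟨hjW, hjdet, hjtr⟩))
        (Subgroup.subset_closure ⟨mul_mem hjW hg, by rw [map_mul, hjdet, one_mul, hd], h⟩)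
  · intro g hg
    rcases hcases g hg with h | h
    · exact ⟨g, hg, rfl, h⟩
    · exact ⟨j * g, mul_mem hjW hg, by rw [map_mul, hjdet, one_mul], h⟩
  · intro g hg
    obtain ⟨A, hA, B, hB', hd⟩ : ∃ A ∈ W, ∃ B ∈ W,
        GeneralLinearGroup.det g = GeneralLinearGroup.det A * GeneralLinearGroup.det B := by
      have hb : g ∈ base W ∨ j * g ∈ base W := by
        rcases hg with h | h
        · exact Or.inl h
        · right
          obtain ⟨A, hA, B, hB', e⟩ := mem_base.1 h
          refine mem_base.2 ⟨1 * A, by simpa using hA, c * B, mul_mem hc hB', ?_⟩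
          rw [hj, sw_dia, mul_assoc, e, ← map_mul]
          rfl
      rcases hb with h | h
      · obtain ⟨A, hA, B, hB', rfl⟩ := mem_base.1 h
        exact ⟨A, hA, B, hB', det_dia A B⟩
      · obtain ⟨A, hA, B, hB', e⟩ := mem_base.1 h
        refine ⟨A, hA, B, hB', ?_⟩
        rw [← det_dia, ← e, map_mul, hjdet, one_mul]
    obtain ⟨x, hx, y, hy, hxy, ht⟩ := hne (A * B) (mul_mem hA hB')
    exact ⟨dia (x, y), base_le_wr W (mem_base.2 ⟨x, hx, y, hy, rfl⟩), by rw [det_dia, hxy, map_mul, hd],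
      by rw [trace_dia]; exact ht⟩

theorem natCast_ne_zero_of_two_pow (h2 : (2 : F) ≠ 0) {k : ℕ} : ((2 ^ k : ℕ) : F) ≠ 0 := by
  rw [Nat.cast_pow]
  exact pow_ne_zero k (by exact_mod_cast h2)

/-- The induction step from a good block. -/
theorem Good.step (hW : Good Γ W) (h2 : (2 : F) ≠ 0) [Nonempty n] {k : ℕ} (hn : Fintype.card n = 2 ^ k)
    (hcard : padicValNat 2 (Nat.card (Γ.grp (n ⊕ n))) = 2 * padicValNat 2 (Nat.card (Γ.grp n)) + 1) :
    Good Γ (wr W) := by
  have hh : ((Fintype.card n : ℕ) : F) ≠ 0 := by rw [hn]; exact natCast_ne_zero_of_two_pow h2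
  refine good_wr hW.toBlock h2 hcard (fun A hA => ?_) (hW.zero_gen.trans (Subgroup.closure_mono fun w hw => ?_))
  · obtain ⟨x, hx, hdx, htx⟩ := hW.det_zero A hA
    refine ⟨x, hx, 1, one_mem W, by rw [map_one, mul_one, hdx], ?_⟩
    rw [htx, zero_add, Units.val_one, Matrix.trace_one]
    exact hh
  · exact ⟨hw.1, by rw [hw.2, zero_add]; exact hh⟩

/-- The odd order normalisers of a Sylow 2-subgroup of the special group are scalar. -/
theorem Good.special (hW : Good Γ W) (h2 : (2 : F) ≠ 0) [Nonempty n] {k : ℕ} (hn : Fintype.card n = 2 ^ (k + 1))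
    (hcard : padicValNat 2 (Nat.card (Γ.grp (n ⊕ n))) = 2 * padicValNat 2 (Nat.card (Γ.grp n)) + 1)
    (g : GL (n ⊕ n) F) (hg : g ∈ Γ.grp (n ⊕ n)) (hodd : Odd (orderOf g))
    (hnorm : ∀ s ∈ wr W ⊓ GeneralLinearGroup.det.ker, g * s * g⁻¹ ∈ wr W ⊓ GeneralLinearGroup.det.ker) :
    ∃ c : F, (g : Matrix (n ⊕ n) (n ⊕ n) F) = c • 1 := by
  classical
  have hh : ((Fintype.card n : ℕ) : F) ≠ 0 := by rw [hn]; exact natCast_ne_zero_of_two_pow h2
  have hgood := hW.step h2 hn hcard
  set S := wr W ⊓ GeneralLinearGroup.det.ker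
  have hmem : ∀ A ∈ W, ∀ B ∈ W, GeneralLinearGroup.det A * GeneralLinearGroup.det B = 1 → dia (A, B) ∈ S :=
    fun A hA B hB h => Subgroup.mem_inf.2 ⟨base_le_wr W (mem_base.2 ⟨A, hA, B, hB, rfl⟩),
      MonoidHom.mem_ker.2 (by rw [det_dia, h])⟩
  have hdneg : GeneralLinearGroup.det (-1 : GL n F) = 1 := Units.ext (by
    simp [Matrix.det_neg, hn, pow_succ, pow_mul, ← mul_pow])
  have he : dia (1, (-1 : GL n F)) ∈ S := hmem _ (one_mem W) _ hW.neg (by rw [map_one, one_mul, hdneg])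
  have hsw : sw F n ∈ S := by
    refine Subgroup.mem_inf.2 ⟨sw_mem_wr W, MonoidHom.mem_ker.2 ?_⟩
    obtain ⟨c, hc', hc⟩ := det_sw_mem (Subgroup.closure {(-1 : GL n F)}) (Subgroup.subset_closure rfl)
    rw [← hc]
    have hc1 : GeneralLinearGroup.det c = 1 := by
      have hle : Subgroup.closure {(-1 : GL n F)} ≤ GeneralLinearGroup.det.ker :=
        (Subgroup.closure_le _).2 fun x hx => by rw [Set.mem_singleton_iff.1 hx]; exact MonoidHom.mem_ker.2 hdneg
      exact MonoidHom.mem_ker.1 (hle hc')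
    rw [hc1, mul_one]
  let T := Subgroup.closure {t | t ∈ S ∧ (t : Matrix (n ⊕ n) (n ⊕ n) F).trace ≠ 0}
  have hone : ∀ B ∈ W, GeneralLinearGroup.det B = 1 → dia (1, B) ∈ T := by
    intro B hB hd
    have hle : Subgroup.closure {v | v ∈ W ∧ GeneralLinearGroup.det v = 1 ∧ (v : Matrix n n F).trace = 0} ≤
        T.comap (dia.comp (MonoidHom.inr (GL n F) (GL n F))) := (Subgroup.closure_le _).2 fun v hv =>
      Subgroup.subset_closure ⟨hmem _ (one_mem W) _ hv.1 (by rw [map_one, one_mul, hv.2.1]), by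
        simp only [MonoidHom.comp_apply, MonoidHom.inr_apply, trace_dia, Units.val_one, Matrix.trace_one, hv.2.2,
          add_zero]
        exact hh⟩
    exact hle (hW.zero_gen_one B hB hd)
  have hpr : ∀ A ∈ W, ∃ B ∈ W, GeneralLinearGroup.det A * GeneralLinearGroup.det B = 1 ∧ dia (A, B) ∈ T := by
    intro A hA
    have := hW.zero_gen hA
    clear hA
    induction this using Subgroup.closure_induction with
    | mem w hw =>
      obtain ⟨v, hv, hdv, htv⟩ := hW.det_ne _ (inv_mem hw.1)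
      refine ⟨v, hv, by rw [hdv, map_inv, mul_inv_cancel], Subgroup.subset_closure
        ⟨hmem _ hw.1 _ hv (by rw [hdv, map_inv, mul_inv_cancel]), by rw [trace_dia, hw.2, zero_add]; exact htv⟩⟩
    | one => exact ⟨1, one_mem W, by simp, by rw [show ((1 : GL n F), (1 : GL n F)) = 1 from rfl, map_one]; exact one_mem T⟩
    | mul a b _ _ ha hb =>
      obtain ⟨a', ha', hda, hTa⟩ := ha
      obtain ⟨b', hb', hdb, hTb⟩ := hb
      refine ⟨a' * b', mul_mem ha' hb', ?_, ?_⟩
      · rw [map_mul, map_mul, mul_mul_mul_comm, hda, hdb, mul_one]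
      · have := mul_mem hTa hTb
        rwa [← map_mul, Prod.mk_mul_mk] at this
    | inv a _ ha =>
      obtain ⟨a', ha', hda, hTa⟩ := ha
      refine ⟨a'⁻¹, inv_mem ha', by rw [map_inv, map_inv, ← mul_inv, hda, inv_one], ?_⟩
      have := inv_mem hTa
      rwa [← map_inv] at this
  refine core hW.toBlock h2 S inf_le_left (hgood.two.to_le inf_le_left) ?_ he hsw (fun A hA => ?_) g hg hodd hnorm
  · intro s hs hsb
    obtain ⟨A, hA, B, hB, rfl⟩ := mem_base.1 hsb
    obtain ⟨B', hB', hd, hT⟩ := hpr A hA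
    have hd' : GeneralLinearGroup.det A * GeneralLinearGroup.det B = 1 := by
      rw [← det_dia]; exact MonoidHom.mem_ker.1 (Subgroup.mem_inf.1 hs).2
    have := mul_mem hT (hone (B'⁻¹ * B) (mul_mem (inv_mem hB') hB) (by
      rw [map_mul, map_inv, inv_mul_eq_one]
      exact mul_left_cancel (hd.trans hd'.symm)))
    rwa [← map_mul, Prod.mk_mul_mk, mul_one, mul_inv_cancel_left] at this
  · obtain ⟨B, hB, hd, -⟩ := hpr A hA
    exact ⟨B, hB, hmem A hA B hB hd⟩

end Cfsg.Lib.Pronormal
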